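import Mathlib
import Cfsg.Agent.Lib.Helper1.Commutator
import Cfsg.Agent.Lib.Helper1.CoprimeAbelian
import Cfsg.Agent.Lib.Helper61.Coprime
import Cfsg.Agent.Lib.Helper37.Symp.SympA

/-!
Basic tools for the "cyclic 3-subgroup moving a four-group" lemma (Thompson, N-groups, section 5):
conjugation actions, fixed-point counting, and the behaviour of an element `a` of `3`-power order
acting on a normal elementary abelian `2`-subgroup `M` with `[M, a]` of order `4`.
-/

namespace Cfsg.Agent.Lib.Helper37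

open scoped commutatorElement

variable {G : Type*} [Group G]

/-- The conjugation action of a subgroup `T` on a subgroup `X` that it normalizes. -/
@[instance_reducible]
def ngAct (T X : Subgroup G) (hTX : T ≤ Subgroup.normalizer (X : Set G)) : MulAction T X where
  smul t x := ⟨(t : G) * x * (t : G)⁻¹, ((Subgroup.mem_normalizer_iff.mp (hTX t.2)) x).mp x.2⟩
  one_smul x := Subtype.ext (by
    show ((1 : T) : G) * x * ((1 : T) : G)⁻¹ = x
    simp)
  mul_smul a b x := Subtype.ext (by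
    show ((a * b : T) : G) * x * ((a * b : T) : G)⁻¹ = (a : G) * ((b : G) * x * (b : G)⁻¹) * (a : G)⁻¹
    simp [mul_assoc])

/-- Fixed-point counting for a `p`-group acting by conjugation on a subgroup. -/
theorem ng_card_modEq_fix [Finite G] {p : ℕ} [Fact p.Prime] (T X : Subgroup G) (hT : IsPGroup p T)
    (hTX : T ≤ Subgroup.normalizer (X : Set G)) :
    Nat.card X ≡ Nat.card (X ⊓ Subgroup.centralizer (T : Set G) : Subgroup G) [MOD p] := by
  letI := ngAct T X hTX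
  have h1 := hT.card_modEq_card_fixedPoints (α := X)
  have h2 : Nat.card (MulAction.fixedPoints T X) =
      Nat.card (X ⊓ Subgroup.centralizer (T : Set G) : Subgroup G) := by
    refine Nat.card_congr
      { toFun := fun x => ⟨x.1.1, x.1.2, ?_⟩
        invFun := fun y => ⟨⟨y.1, y.2.1⟩, ?_⟩
        left_inv := fun x => rfl
        right_inv := fun y => rfl }
    · refine Subgroup.mem_centralizer_iff.mpr (fun t ht => ?_)
      have h3 := congrArg Subtype.val ((MulAction.mem_fixedPoints.mp x.2) ⟨t, ht⟩)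
      have h4 : t * (x.1 : G) * t⁻¹ = (x.1 : G) := h3
      calc t * (x.1 : G) = t * (x.1 : G) * t⁻¹ * t := by group
        _ = (x.1 : G) * t := by rw [h4]
    · refine MulAction.mem_fixedPoints.mpr (fun t => Subtype.ext ?_)
      have h3 := Subgroup.mem_centralizer_iff.mp y.2.2 t t.2
      show (t : G) * (y : G) * (t : G)⁻¹ = (y : G)
      rw [h3]; group
  rw [h2] at h1
  exact h1

theorem ng_mem_cent_zpowers {x v : G} (h : x * v * x⁻¹ = v) :
    v ∈ Subgroup.centralizer ((Subgroup.zpowers x : Subgroup G) : Set G) := by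
  have hc : Commute x v := by
    show x * v = v * x
    calc x * v = x * v * x⁻¹ * x := by group
      _ = v * x := by rw [h]
  refine Subgroup.mem_centralizer_iff.mpr (fun t ht => ?_)
  obtain ⟨k, rfl⟩ := Subgroup.mem_zpowers_iff.mp ht
  exact (hc.zpow_left k)

theorem ng_le_cent_zpowers {x : G} {N : Subgroup G} (h : ∀ n ∈ N, x * n * x⁻¹ = n) :
    N ≤ Subgroup.centralizer ((Subgroup.zpowers x : Subgroup G) : Set G) :=
  fun n hn => ng_mem_cent_zpowers (h n hn)

theorem ng_conj_of_mem_cent_zpowers {x v : G}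
    (h : v ∈ Subgroup.centralizer ((Subgroup.zpowers x : Subgroup G) : Set G)) : x * v * x⁻¹ = v := by
  have h1 := Subgroup.mem_centralizer_iff.mp h x (Subgroup.mem_zpowers x)
  rw [h1]; group

theorem ng_mem_cent_sup {u : G} {A B : Subgroup G} (hA : u ∈ Subgroup.centralizer (A : Set G))
    (hB : u ∈ Subgroup.centralizer (B : Set G)) :
    u ∈ Subgroup.centralizer ((A ⊔ B : Subgroup G) : Set G) := by
  have hA' : A ≤ Subgroup.centralizer {u} := fun a ha =>
    Subgroup.mem_centralizer_singleton_iff.mpr (Subgroup.mem_centralizer_iff.mp hA a ha)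
  have hB' : B ≤ Subgroup.centralizer {u} := fun a ha =>
    Subgroup.mem_centralizer_singleton_iff.mpr (Subgroup.mem_centralizer_iff.mp hB a ha)
  refine Subgroup.mem_centralizer_iff.mpr (fun y hy => ?_)
  exact Subgroup.mem_centralizer_singleton_iff.mp ((sup_le hA' hB') hy)

/-- Elements of the join of two subgroups of a commutative subgroup are products. -/
theorem ng_mem_sup (M A B : Subgroup G) (hMc : ∀ a ∈ M, ∀ b ∈ M, a * b = b * a) (hA : A ≤ M)
    (hB : B ≤ M) {y : G} (hy : y ∈ A ⊔ B) : ∃ a ∈ A, ∃ b ∈ B, y = a * b := by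
  rw [Subgroup.sup_eq_closure] at hy
  induction hy using Subgroup.closure_induction with
  | mem y hy =>
    rcases hy with h | h
    · exact ⟨y, h, 1, B.one_mem, by simp⟩
    · exact ⟨1, A.one_mem, y, h, by simp⟩
  | one => exact ⟨1, A.one_mem, 1, B.one_mem, by simp⟩
  | mul y z _ _ ihy ihz =>
    obtain ⟨a, ha, b, hb, rfl⟩ := ihy
    obtain ⟨a', ha', b', hb', rfl⟩ := ihz
    refine ⟨a * a', A.mul_mem ha ha', b * b', B.mul_mem hb hb', ?_⟩
    have h1 := hMc b (hB hb) a' (hA ha')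
    calc a * b * (a' * b') = a * (b * a') * b' := by group
      _ = a * (a' * b) * b' := by rw [h1]
      _ = a * a' * (b * b') := by group
  | inv y _ ih =>
    obtain ⟨a, ha, b, hb, rfl⟩ := ih
    refine ⟨a⁻¹, A.inv_mem ha, b⁻¹, B.inv_mem hb, ?_⟩
    have h1 := hMc a⁻¹ (hA (A.inv_mem ha)) b⁻¹ (hB (B.inv_mem hb))
    rw [mul_inv_rev, h1]

theorem ng_card_sup_le [Finite G] (M A B : Subgroup G) (hMc : ∀ a ∈ M, ∀ b ∈ M, a * b = b * a)
    (hA : A ≤ M) (hB : B ≤ M) : Nat.card (A ⊔ B : Subgroup G) ≤ Nat.card A * Nat.card B := by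
  rw [← Nat.card_prod]
  refine Nat.card_le_card_of_surjective
    (fun ab : A × B => (⟨(ab.1 : G) * (ab.2 : G),
      Subgroup.mul_mem _ (Subgroup.mem_sup_left ab.1.2) (Subgroup.mem_sup_right ab.2.2)⟩ :
        (A ⊔ B : Subgroup G))) ?_
  rintro ⟨y, hy⟩
  obtain ⟨a, ha, b, hb, rfl⟩ := ng_mem_sup M A B hMc hA hB hy
  exact ⟨(⟨a, ha⟩, ⟨b, hb⟩), rfl⟩

/-- The elements acting trivially on `M / W` form a subgroup. -/
theorem ng_exists_triv (M W : Subgroup G) [hMn : M.Normal] (hWM : W ≤ M) :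
    ∃ K : Subgroup G, ∀ d : G, d ∈ K ↔ ∀ m ∈ M, d * m * d⁻¹ * m⁻¹ ∈ W := by
  refine ⟨{ carrier := {d | ∀ m ∈ M, d * m * d⁻¹ * m⁻¹ ∈ W}
            mul_mem' := ?_
            one_mem' := ?_
            inv_mem' := ?_ }, fun d => Iff.rfl⟩
  · intro a b ha hb m hm
    have hw : b * m * b⁻¹ * m⁻¹ ∈ W := hb m hm
    have h1 := ha _ (hWM hw)
    have h2 := ha m hm
    have e : a * b * m * (a * b)⁻¹ * m⁻¹ =
        (a * (b * m * b⁻¹ * m⁻¹) * a⁻¹ * (b * m * b⁻¹ * m⁻¹)⁻¹) * (b * m * b⁻¹ * m⁻¹) *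
          (a * m * a⁻¹ * m⁻¹) := by group
    show a * b * m * (a * b)⁻¹ * m⁻¹ ∈ W
    rw [e]
    exact W.mul_mem (W.mul_mem h1 hw) h2
  · intro m _
    show (1 : G) * m * (1 : G)⁻¹ * m⁻¹ ∈ W
    simp
  · intro a ha m hm
    have hm' : a⁻¹ * m * a ∈ M := by
      have := hMn.conj_mem m hm a⁻¹
      simpa using this
    have h1 := ha _ hm'
    have e : a⁻¹ * m * a⁻¹⁻¹ * m⁻¹ = (a * (a⁻¹ * m * a) * a⁻¹ * (a⁻¹ * m * a)⁻¹)⁻¹ := by group
    show a⁻¹ * m * a⁻¹⁻¹ * m⁻¹ ∈ W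
    rw [e]
    exact W.inv_mem h1

/-- If every element of `T` acts trivially on `M / W` then `[M, T] ≤ W`. -/
theorem ng_comm_le_of_triv (M W T : Subgroup G) (h : ∀ t ∈ T, ∀ m ∈ M, t * m * t⁻¹ * m⁻¹ ∈ W) :
    ⁅M, T⁆ ≤ W := by
  rw [Subgroup.commutator_le]
  intro m hm t ht
  have h1 := W.inv_mem (h t ht m hm)
  have e : ⁅m, t⁆ = (t * m * t⁻¹ * m⁻¹)⁻¹ := by
    rw [commutatorElement_def]; group
  rw [e]; exact h1

/-- If the generators of a subgroup act trivially on `M / W`, so does the subgroup. -/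
theorem ng_comm_le_of_closure (M W : Subgroup G) [M.Normal] (hWM : W ≤ M) (s : Set G)
    (h : ∀ t ∈ s, ∀ m ∈ M, t * m * t⁻¹ * m⁻¹ ∈ W) :
    ∀ t ∈ Subgroup.closure s, ∀ m ∈ M, t * m * t⁻¹ * m⁻¹ ∈ W := by
  obtain ⟨K, hK⟩ := ng_exists_triv M W hWM
  have h1 : Subgroup.closure s ≤ K := (Subgroup.closure_le K).mpr (fun t ht => (hK t).mpr (h t ht))
  exact fun t ht => (hK t).mp (h1 ht)

theorem ng_comm_zpowers_le (M W : Subgroup G) [M.Normal] (hWM : W ≤ M) (x : G)
    (h : ∀ m ∈ M, x * m * x⁻¹ * m⁻¹ ∈ W) : ⁅M, Subgroup.zpowers x⁆ ≤ W := by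
  refine ng_comm_le_of_triv M W _ ?_
  have h1 := ng_comm_le_of_closure M W hWM {x} (fun t ht => by
    rw [Set.mem_singleton_iff] at ht; subst ht; exact h)
  intro t ht
  rw [Subgroup.zpowers_eq_closure] at ht
  exact h1 t ht

theorem ng_comm_mem (M : Subgroup G) (x : G) {m : G} (hm : m ∈ M) :
    x * m * x⁻¹ * m⁻¹ ∈ ⁅M, Subgroup.zpowers x⁆ := by
  have h1 : ⁅x, m⁆ ∈ ⁅Subgroup.zpowers x, M⁆ :=
    Subgroup.commutator_mem_commutator (Subgroup.mem_zpowers x) hm
  rw [Subgroup.commutator_comm] at h1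
  exact h1

theorem ng_isPGroup_zpowers {a : G} (h : a ^ 3 = 1) : IsPGroup 3 (Subgroup.zpowers a) := by
  rintro ⟨y, hy⟩
  obtain ⟨k, rfl⟩ := Subgroup.mem_zpowers_iff.mp hy
  refine ⟨1, Subtype.ext ?_⟩
  show (a ^ k) ^ (3 ^ 1) = 1
  rw [pow_one, ← zpow_natCast, ← zpow_mul, mul_comm, zpow_mul, zpow_natCast, h, one_zpow]

theorem ng_coprime [Finite G] {T N : Subgroup G} {p : ℕ} [Fact p.Prime] (hp2 : p ≠ 2)
    (hT : IsPGroup p T) (h2 : ∀ n ∈ N, n * n = 1) : (Nat.card T).Coprime (Nat.card N) := by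
  haveI : Fact (Nat.Prime 2) := ⟨Nat.prime_two⟩
  obtain ⟨k, hk⟩ := IsPGroup.iff_card.mp hT
  obtain ⟨j, hj⟩ := IsPGroup.iff_card.mp (sy_isPGroup_two h2)
  rw [hk, hj]
  exact Nat.Coprime.pow _ _ ((Nat.coprime_primes Fact.out Nat.prime_two).mpr hp2)

theorem ng_card_two_pow [Finite G] {N : Subgroup G} (h2 : ∀ n ∈ N, n * n = 1) :
    ∃ j : ℕ, Nat.card N = 2 ^ j := by
  haveI : Fact (Nat.Prime 2) := ⟨Nat.prime_two⟩
  exact IsPGroup.iff_card.mp (sy_isPGroup_two h2)

theorem ng_map_conj_normal (M : Subgroup G) [hMn : M.Normal] (g : G) :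
    M.map (MulAut.conj g).toMonoidHom = M := by
  ext y
  simp only [Subgroup.mem_map]
  constructor
  · rintro ⟨m, hm, rfl⟩
    exact hMn.conj_mem m hm g
  · intro hy
    refine ⟨g⁻¹ * y * g, ?_, ?_⟩
    · have := hMn.conj_mem y hy g⁻¹
      simpa using this
    · show g * (g⁻¹ * y * g) * g⁻¹ = y
      group

/-- Conjugating `[M, a]`. -/
theorem ng_conj_V (M : Subgroup G) [M.Normal] (x g : G) :
    ⁅M, Subgroup.zpowers (g * x * g⁻¹)⁆ = (⁅M, Subgroup.zpowers x⁆).map (MulAut.conj g).toMonoidHom := by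
  rw [Subgroup.map_commutator, MonoidHom.map_zpowers, ng_map_conj_normal]
  rfl

theorem ng_card_conj_V [Finite G] (M : Subgroup G) [M.Normal] (x g : G) :
    Nat.card ↥⁅M, Subgroup.zpowers (g * x * g⁻¹)⁆ = Nat.card ↥⁅M, Subgroup.zpowers x⁆ := by
  rw [ng_conj_V]
  exact Subgroup.card_map_of_injective (MulAut.conj g).injective

section act

variable [Finite G] (M : Subgroup G) [hMn : M.Normal] (hMc : ∀ a ∈ M, ∀ b ∈ M, a * b = b * a)
  (hM2 : ∀ a ∈ M, a * a = 1)

include hMc hM2 in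
/-- `[M, a]` has no non-trivial fixed point of `a`. -/
theorem ng_V_inf_cent (a : G) (ha : IsPGroup 3 (Subgroup.zpowers a)) :
    ⁅M, Subgroup.zpowers a⁆ ⊓ Subgroup.centralizer ((Subgroup.zpowers a : Subgroup G) : Set G) = ⊥ := by
  haveI : IsMulCommutative M := ⟨⟨fun u v => Subtype.ext (hMc u u.2 v v.2)⟩⟩
  haveI : Fact (Nat.Prime 3) := ⟨Nat.prime_three⟩
  have hcop : (Nat.card (Subgroup.zpowers a)).Coprime (Nat.card M) :=
    ng_coprime (by norm_num) ha hM2
  have h1 := Cfsg.Agent.Lib.Helper1.abelian_centralizer_inf_commutator (Subgroup.zpowers a) M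
    Subgroup.le_normalizer_of_normal hcop
  rw [eq_bot_iff]
  intro v hv
  rw [← h1]
  exact ⟨⟨Subgroup.commutator_le_left M _ hv.1, hv.2⟩, hv.1⟩

include hMc hM2 in
/-- An `a`-invariant subgroup of `[M, a]` (of order `4`) is trivial or everything. -/
theorem ng_V_irred (a : G) (ha : IsPGroup 3 (Subgroup.zpowers a))
    (hV : Nat.card ↥⁅M, Subgroup.zpowers a⁆ = 4) (U : Subgroup G) (hU : U ≤ ⁅M, Subgroup.zpowers a⁆)
    (haU : Subgroup.zpowers a ≤ Subgroup.normalizer (U : Set G)) :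
    U = ⊥ ∨ U = ⁅M, Subgroup.zpowers a⁆ := by
  haveI : Fact (Nat.Prime 3) := ⟨Nat.prime_three⟩
  have h1 := ng_card_modEq_fix (Subgroup.zpowers a) U ha haU
  have h2 : U ⊓ Subgroup.centralizer ((Subgroup.zpowers a : Subgroup G) : Set G) = ⊥ := by
    rw [eq_bot_iff, ← ng_V_inf_cent M hMc hM2 a ha]
    exact inf_le_inf_right _ hU
  rw [h2, Subgroup.card_bot] at h1
  have h3 : Nat.card U ∣ 4 := hV ▸ Subgroup.card_dvd_of_le hU
  have h4 : Nat.card U ≤ 4 := Nat.le_of_dvd (by norm_num) h3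
  have h5 : Nat.card U % 3 = 1 := h1
  have h6 : Nat.card U = 1 ∨ Nat.card U = 4 := by
    interval_cases (Nat.card U) <;> simp_all
  rcases h6 with h6 | h6
  · left; exact Subgroup.card_eq_one.mp h6
  · right; exact Subgroup.eq_of_le_of_card_ge hU (by rw [hV, h6])

include hMc hM2 in
/-- An `a`-invariant subgroup of `M` is centralized by `a` or contains `[M, a]`. -/
theorem ng_invariant (a : G) (ha : IsPGroup 3 (Subgroup.zpowers a))
    (hV : Nat.card ↥⁅M, Subgroup.zpowers a⁆ = 4) (N : Subgroup G) (hN : N ≤ M)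
    (haN : Subgroup.zpowers a ≤ Subgroup.normalizer (N : Set G)) :
    N ≤ Subgroup.centralizer ((Subgroup.zpowers a : Subgroup G) : Set G) ∨ ⁅M, Subgroup.zpowers a⁆ ≤ N := by
  have h1 : ⁅N, Subgroup.zpowers a⁆ ≤ ⁅M, Subgroup.zpowers a⁆ := Subgroup.commutator_mono hN le_rfl
  have h2 : ⁅N, Subgroup.zpowers a⁆ ≤ N := Cfsg.Agent.Lib.Helper1.commutator_le_of_le_normalizer haN
  have h3 := Cfsg.Agent.Lib.Helper1.le_normalizer_commutator_right N (Subgroup.zpowers a)
  rcases ng_V_irred M hMc hM2 a ha hV _ h1 h3 with h | h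
  · left; exact Subgroup.commutator_eq_bot_iff_le_centralizer.mp h
  · right; rw [← h]; exact h2

end act

/-- An elementary abelian group of order at least `p ^ 2` is not cyclic. -/
theorem ng_not_cyclic [Finite G] {p : ℕ} (hp : p.Prime) (A : Subgroup G) (hAe : ∀ a ∈ A, a ^ p = 1)
    (hA : p ^ 2 ≤ Nat.card A) : ¬ IsCyclic A := by
  intro hc
  obtain ⟨g, hg⟩ := hc.exists_generator
  have h1 : Nat.card A = orderOf g := by
    rw [← Nat.card_zpowers g]
    exact (Nat.card_congr (Equiv.subtypeUnivEquiv hg)).symm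
  have h2 : orderOf g ∣ p := orderOf_dvd_of_pow_eq_one (Subtype.ext (by simpa using hAe g g.2))
  have h3 : orderOf g ≤ p := Nat.le_of_dvd hp.pos h2
  have h4 : p < p ^ 2 := by
    have := hp.one_lt
    nlinarith
  omega

end Cfsg.Agent.Lib.Helper37
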