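import Mathlib
import Cfsg.Agent.S1324
import Cfsg.Agent.Lib.Helper31.EvenChar
import Cfsg.Agent.Lib.Helper35.BG.Basic
import Cfsg.Agent.Lib.Helper37.NG.NGA

/-!
The hyperplane lemma: if an element `x` of `3`-power order, acting on the normal elementary abelian
`2`-subgroup `M` with `[M, x]` of order `4`, normalizes an elementary abelian `3`-subgroup `F` of
order at least `9`, then a subgroup of index at most `3` of `F` centralizes `[M, x]`.
-/

namespace Cfsg.Agent.Lib.Helper37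

open scoped commutatorElement
open Cfsg.Agent.Lib.Helper31

variable {G : Type*} [Group G]

theorem ng_conj_cent_map (B : Subgroup G) (x : G) {u : G}
    (h : u ∈ Subgroup.centralizer (B : Set G)) :
    x * u * x⁻¹ ∈ Subgroup.centralizer ((B.map (MulAut.conj x).toMonoidHom : Subgroup G) : Set G) := by
  refine Subgroup.mem_centralizer_iff.mpr ?_
  rintro _ ⟨b, hb, rfl⟩
  have h1 := Subgroup.mem_centralizer_iff.mp h b hb
  show x * b * x⁻¹ * (x * u * x⁻¹) = x * u * x⁻¹ * (x * b * x⁻¹)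
  calc x * b * x⁻¹ * (x * u * x⁻¹) = x * (b * u) * x⁻¹ := by group
    _ = x * (u * b) * x⁻¹ := by rw [h1]
    _ = x * u * x⁻¹ * (x * b * x⁻¹) := by group

theorem ng_conj_cent_of_comm {B' : Subgroup G} {b y : G} (hb : ∀ z ∈ B', b * z = z * b)
    (hy : y ∈ Subgroup.centralizer (B' : Set G)) :
    b * y * b⁻¹ ∈ Subgroup.centralizer (B' : Set G) := by
  refine Subgroup.mem_centralizer_iff.mpr (fun z hz => ?_)
  have hzb : Commute z b := (hb z hz).symm
  have hzy : Commute z y := Subgroup.mem_centralizer_iff.mp hy z hz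
  exact (hzb.mul_right hzy).mul_right hzb.inv_right

theorem ng_sup_eq_of_card [Finite G] {F B B' : Subgroup G} (hF : IsPGroup 3 F) (hB : B ≤ F)
    (hcard : Nat.card F ≤ 3 * Nat.card B) (hB' : B' ≤ F) (hne : ¬ B' ≤ B) : B ⊔ B' = F := by
  haveI : Fact (Nat.Prime 3) := ⟨Nat.prime_three⟩
  have h1 : B < B ⊔ B' :=
    lt_of_le_of_ne le_sup_left (fun h => hne (le_of_le_of_eq le_sup_right h.symm))
  have h2 : B ⊔ B' ≤ F := sup_le hB hB'
  have h3 := sy_card_mul_le_of_lt (hF.to_le h2) h1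
  exact Subgroup.eq_of_le_of_card_ge h2 (by omega)

theorem ng_hyperplane [Finite G] (M : Subgroup G) [hMn : M.Normal]
    (hMc : ∀ a ∈ M, ∀ b ∈ M, a * b = b * a) (hM2 : ∀ a ∈ M, a * a = 1) (x : G)
    (hx3 : IsPGroup 3 (Subgroup.zpowers x)) (hV : Nat.card ↥⁅M, Subgroup.zpowers x⁆ = 4)
    (F : Subgroup G) (hF : Cfsg.IsElementaryAbelian 3 F) (hF9 : 9 ≤ Nat.card F)
    (hxF : x ∈ Subgroup.normalizer (F : Set G)) :
    ∃ B : Subgroup G, B ≤ F ∧ Nat.card F ≤ 3 * Nat.card B ∧
      B ≤ Subgroup.centralizer ((⁅M, Subgroup.zpowers x⁆ : Subgroup G) : Set G) := by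
  classical
  haveI : Fact (Nat.Prime 3) := ⟨Nat.prime_three⟩
  obtain ⟨hFc', hFe⟩ := hF
  have hFc : ∀ a ∈ F, ∀ b ∈ F, a * b = b * a := fun a ha b hb =>
    congrArg Subtype.val (hFc'.is_comm.comm ⟨a, ha⟩ ⟨b, hb⟩)
  have hF3 : IsPGroup 3 F := fun f => ⟨1, Subtype.ext (by simpa using hFe f f.2)⟩
  have hxMn : ∀ y : G, y ∈ Subgroup.normalizer (M : Set G) := fun y =>
    Subgroup.le_normalizer_of_normal (K := ⊤) (Subgroup.mem_top y)
  have hM3 : ¬ 3 ∣ Nat.card M := by
    obtain ⟨j, hj⟩ := ng_card_two_pow (N := M) hM2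
    rw [hj]
    intro h
    have := Nat.Prime.dvd_of_dvd_pow Nat.prime_three h
    omega
  have hgen := Cfsg.Agent.S1324.result 3 F M ⟨hFc', hFe⟩ (le_trans (by norm_num) hF9) hM3
    Subgroup.le_normalizer_of_normal
  have hex : ∃ B : Subgroup G, B ≤ F ∧ B.relIndex F ≤ 3 ∧
      ¬ (M ⊓ Subgroup.centralizer (B : Set G) ≤
        Subgroup.centralizer ((Subgroup.zpowers x : Subgroup G) : Set G)) := by
    by_contra hcon
    push Not at hcon
    have h1 : M ≤ Subgroup.centralizer ((Subgroup.zpowers x : Subgroup G) : Set G) := by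
      calc M = ⨆ B : {B : Subgroup G // B ≤ F ∧ B.relIndex F ≤ 3},
            M ⊓ Subgroup.centralizer ((B : Subgroup G) : Set G) := hgen
        _ ≤ _ := iSup_le (fun B => hcon B.1 B.2.1 B.2.2)
    have h2 : ⁅M, Subgroup.zpowers x⁆ = ⊥ := Subgroup.commutator_eq_bot_iff_le_centralizer.mpr h1
    rw [h2, Subgroup.card_bot] at hV
    omega
  obtain ⟨B, hBF, hBidx, hBx⟩ := hex
  have hcardB : Nat.card F ≤ 3 * Nat.card B := by
    have h1 := Subgroup.relIndex_mul_relIndex ⊥ B F bot_le hBF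
    rw [Subgroup.relIndex_bot_left, Subgroup.relIndex_bot_left] at h1
    calc Nat.card F = Nat.card B * B.relIndex F := h1.symm
      _ ≤ Nat.card B * 3 := Nat.mul_le_mul_left _ hBidx
      _ = 3 * Nat.card B := mul_comm _ _
  have hNM : M ⊓ Subgroup.centralizer (B : Set G) ≤ M := inf_le_left
  by_cases hxB : x ∈ Subgroup.normalizer (B : Set G)
  · -- Case 1: `B` is `x`-invariant
    have hxN : Subgroup.zpowers x ≤
        Subgroup.normalizer ((M ⊓ Subgroup.centralizer (B : Set G) : Subgroup G) : Set G) := by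
      rw [Subgroup.zpowers_le]
      exact mem_normalizer_inf (hxMn x) (normalizer_le_normalizer_centralizer B hxB)
    rcases ng_invariant M hMc hM2 x hx3 hV _ hNM hxN with h | h
    · exact absurd h hBx
    · refine ⟨B, hBF, hcardB, ?_⟩
      rw [Subgroup.le_centralizer_iff]
      exact h.trans inf_le_right
  · by_cases hNF : M ⊓ Subgroup.centralizer (B : Set G) ≤ Subgroup.centralizer (F : Set G)
    · -- Case 2a
      have hxN' : Subgroup.zpowers x ≤
          Subgroup.normalizer ((M ⊓ Subgroup.centralizer (F : Set G) : Subgroup G) : Set G) := by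
        rw [Subgroup.zpowers_le]
        exact mem_normalizer_inf (hxMn x) (normalizer_le_normalizer_centralizer F hxF)
      rcases ng_invariant M hMc hM2 x hx3 hV _ inf_le_left hxN' with h | h
      · exact absurd ((le_inf hNM hNF).trans h) hBx
      · refine ⟨F, le_rfl, by omega, ?_⟩
        rw [Subgroup.le_centralizer_iff]
        exact h.trans inf_le_right
    · -- Case 2b: contradiction
      exfalso
      obtain ⟨N, hNdef⟩ : ∃ N : Subgroup G, N = M ⊓ Subgroup.centralizer (B : Set G) := ⟨_, rfl⟩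
      rw [← hNdef] at hNM hNF hBx
      have hNB : N ≤ Subgroup.centralizer (B : Set G) := by rw [hNdef]; exact inf_le_right
      have hFN : F ≤ Subgroup.normalizer (N : Set G) := by
        intro f hf
        rw [hNdef]
        refine mem_normalizer_inf (hxMn f) (normalizer_le_normalizer_centralizer B ?_)
        refine Cfsg.Agent.Lib.Helper35.BG.centralizer_le_normalizer' B ?_
        exact Subgroup.mem_centralizer_iff.mpr (fun b hb => hFc b (hBF hb) f hf)
      obtain ⟨W, hWdef⟩ : ∃ W : Subgroup G, W = ⁅N, F⁆ := ⟨_, rfl⟩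
      have hWN : W ≤ N := by
        rw [hWdef]; exact Cfsg.Agent.Lib.Helper1.commutator_le_of_le_normalizer hFN
      have hFW : F ≤ Subgroup.normalizer (W : Set G) := by
        rw [hWdef]; exact Cfsg.Agent.Lib.Helper1.le_normalizer_commutator_right N F
      have hW1 : W ≠ ⊥ := fun h => hNF (Subgroup.commutator_eq_bot_iff_le_centralizer.mp (hWdef ▸ h))
      have hWM : W ≤ M := hWN.trans hNM
      have hWC : W ⊓ Subgroup.centralizer (F : Set G) = ⊥ := by
        haveI : IsMulCommutative N := ⟨⟨fun u v => Subtype.ext (hMc u (hNM u.2) v (hNM v.2))⟩⟩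
        have hcop : (Nat.card F).Coprime (Nat.card N) :=
          ng_coprime (by norm_num) hF3 (fun n hn => hM2 n (hNM hn))
        have h1 := Cfsg.Agent.Lib.Helper1.abelian_centralizer_inf_commutator F N hFN hcop
        rw [eq_bot_iff]
        intro w hw
        rw [← h1]
        exact ⟨⟨hWN hw.1, hw.2⟩, hWdef ▸ hw.1⟩
      have hW4 : 4 ≤ Nat.card W := by
        have h1 := ng_card_modEq_fix F W hF3 hFW
        rw [hWC, Subgroup.card_bot] at h1
        obtain ⟨j, hj⟩ := ng_card_two_pow (N := W) (fun n hn => hM2 n (hWM hn))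
        have h2 : Nat.card W ≠ 1 := fun h => hW1 (Subgroup.card_eq_one.mp h)
        rw [hj] at h1 h2 ⊢
        rcases j with _ | _ | j
        · simp at h2
        · exfalso; revert h1; decide
        · calc 4 = 2 ^ 2 := by norm_num
            _ ≤ 2 ^ (j + 1 + 1) := Nat.pow_le_pow_right (by norm_num) (by omega)
      -- the conjugates of `B`
      obtain ⟨B1, hB1def⟩ : ∃ B1 : Subgroup G, B1 = B.map (MulAut.conj x).toMonoidHom := ⟨_, rfl⟩
      obtain ⟨B2, hB2def⟩ : ∃ B2 : Subgroup G, B2 = B.map (MulAut.conj (x * x)).toMonoidHom :=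
        ⟨_, rfl⟩
      have hx2F : x * x ∈ Subgroup.normalizer (F : Set G) := Subgroup.mul_mem _ hxF hxF
      have hB1F : B1 ≤ F := by
        rw [hB1def]
        rintro _ ⟨b, hb, rfl⟩
        exact conj_mem_of_mem_normalizer hxF (hBF hb)
      have hB2F : B2 ≤ F := by
        rw [hB2def]
        rintro _ ⟨b, hb, rfl⟩
        exact conj_mem_of_mem_normalizer hx2F (hBF hb)
      have hcB1 : Nat.card B1 = Nat.card B := by
        rw [hB1def]; exact Subgroup.card_map_of_injective (MulAut.conj x).injective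
      have hcB2 : Nat.card B2 = Nat.card B := by
        rw [hB2def]; exact Subgroup.card_map_of_injective (MulAut.conj (x * x)).injective
      have hB1B : ¬ B1 ≤ B := by
        intro h
        have h1 : B1 = B := Subgroup.eq_of_le_of_card_ge h (by rw [hcB1])
        rw [hB1def] at h1
        exact hxB (Cfsg.Agent.Lib.Helper35.BG.mem_normalizer_of_map_conj_eq h1)
      have hx2B : x * x ∉ Subgroup.normalizer (B : Set G) := by
        intro h
        obtain ⟨k, hk⟩ := IsPGroup.iff_card.mp hx3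
        rw [Nat.card_zpowers] at hk
        have hodd : (3 ^ k) % 2 = 1 := by rw [Nat.pow_mod]; norm_num
        have hx : x = (x * x) ^ ((3 ^ k + 1) / 2) := by
          rw [← pow_two, ← pow_mul]
          have h2 : 2 * ((3 ^ k + 1) / 2) = 3 ^ k + 1 := by omega
          rw [h2, pow_succ, ← hk, pow_orderOf_eq_one, one_mul]
        have h3 := Subgroup.pow_mem _ h ((3 ^ k + 1) / 2)
        rw [← hx] at h3
        exact hxB h3
      have hB2B : ¬ B2 ≤ B := by
        intro h
        have h1 : B2 = B := Subgroup.eq_of_le_of_card_ge h (by rw [hcB2])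
        rw [hB2def] at h1
        exact hx2B (Cfsg.Agent.Lib.Helper35.BG.mem_normalizer_of_map_conj_eq h1)
      have hB2B1 : ¬ B2 ≤ B1 := by
        intro h
        apply hB1B
        rw [hB1def]
        rintro _ ⟨b, hb, rfl⟩
        have h1 : (MulAut.conj (x * x)).toMonoidHom b ∈ B1 := h (by rw [hB2def]; exact ⟨b, hb, rfl⟩)
        rw [hB1def] at h1
        have h2 := Cfsg.Agent.Lib.Helper35.BG.mem_map_conj_iff.mp h1
        have e : x⁻¹ * ((MulAut.conj (x * x)).toMonoidHom b) * x = (MulAut.conj x).toMonoidHom b := by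
          show x⁻¹ * (x * x * b * (x * x)⁻¹) * x = x * b * x⁻¹
          group
        rw [e] at h2
        exact h2
      obtain ⟨b, hbB, hb1, hb2⟩ : ∃ b ∈ B, b ∉ B1 ∧ b ∉ B2 := by
        by_contra hcon
        push Not at hcon
        have hBB1 : ¬ B ≤ B1 := fun h => hB1B (by
          have h1 : B = B1 := Subgroup.eq_of_le_of_card_ge h (by rw [hcB1])
          rw [← h1])
        have hBB2 : ¬ B ≤ B2 := fun h => hB2B (by
          have h1 : B = B2 := Subgroup.eq_of_le_of_card_ge h (by rw [hcB2])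
          rw [← h1])
        obtain ⟨b1, hb1B, hb1⟩ := SetLike.not_le_iff_exists.mp hBB1
        obtain ⟨b2, hb2B, hb2⟩ := SetLike.not_le_iff_exists.mp hBB2
        have h1 : b1 ∈ B2 := hcon b1 hb1B hb1
        have h2 : b2 ∈ B1 := by
          by_contra h
          exact hb2 (hcon b2 hb2B h)
        by_cases h3 : b1 * b2 ∈ B1
        · exact hb1 (by have := B1.mul_mem h3 (B1.inv_mem h2); simpa using this)
        · have h4 := hcon (b1 * b2) (B.mul_mem hb1B hb2B) h3
          exact hb2 (by have := B2.mul_mem (B2.inv_mem h1) h4; simpa using this)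
      have hbF : b ∈ F := hBF hbB
      have hBsup : B ⊔ B1 = F := ng_sup_eq_of_card hF3 hBF hcardB hB1F hB1B
      have hB12 : B1 ⊔ B2 = F :=
        ng_sup_eq_of_card hF3 hB1F (by rw [hcB1]; exact hcardB) hB2F hB2B1
      have hfix : ∀ u ∈ W, x * u * x⁻¹ = u → u = 1 := by
        intro u hu hxu
        have h1 : u ∈ Subgroup.centralizer (B : Set G) := hNB (hWN hu)
        have h2 : u ∈ Subgroup.centralizer (B1 : Set G) := by
          rw [← hxu, hB1def]
          exact ng_conj_cent_map B x h1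
        have h3 := ng_mem_cent_sup h1 h2
        rw [hBsup] at h3
        have h4 : u ∈ W ⊓ Subgroup.centralizer (F : Set G) := ⟨hu, h3⟩
        rw [hWC] at h4
        exact Subgroup.mem_bot.mp h4
      -- the map `w ↦ x w x⁻¹ w⁻¹` from `W` to `[M, x]`
      let f : W → (⁅M, Subgroup.zpowers x⁆ : Subgroup G) := fun w =>
        ⟨x * w * x⁻¹ * (w : G)⁻¹, ng_comm_mem M x (hWM w.2)⟩
      have hfinj : Function.Injective f := by
        intro w w' h
        have h1 : x * (w : G) * x⁻¹ * (w : G)⁻¹ = x * (w' : G) * x⁻¹ * (w' : G)⁻¹ :=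
          congrArg Subtype.val h
        have hA : x * (w : G) * x⁻¹ = x * (w' : G) * x⁻¹ * (w' : G)⁻¹ * (w : G) := by
          calc x * (w : G) * x⁻¹ = x * (w : G) * x⁻¹ * (w : G)⁻¹ * (w : G) := by group
            _ = x * (w' : G) * x⁻¹ * (w' : G)⁻¹ * (w : G) := by rw [h1]
        have hu : x * ((w' : G)⁻¹ * (w : G)) * x⁻¹ = (w' : G)⁻¹ * (w : G) := by
          calc x * ((w' : G)⁻¹ * (w : G)) * x⁻¹ = (x * (w' : G) * x⁻¹)⁻¹ * (x * (w : G) * x⁻¹) := by
                group
            _ = (x * (w' : G) * x⁻¹)⁻¹ * (x * (w' : G) * x⁻¹ * (w' : G)⁻¹ * (w : G)) := by rw [hA]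
            _ = (w' : G)⁻¹ * (w : G) := by group
        have h2 := hfix _ (W.mul_mem (W.inv_mem w'.2) w.2) hu
        exact Subtype.ext (inv_mul_eq_one.mp h2).symm
      have hfsurj : Function.Surjective f :=
        (hfinj.bijective_of_nat_card_le (by rw [hV]; exact hW4)).2
      obtain ⟨w, hwW, hw1⟩ : ∃ w ∈ W, w ≠ 1 := by
        by_contra hcon
        push Not at hcon
        exact hW1 (eq_bot_iff.mpr (fun w hw => Subgroup.mem_bot.mpr (hcon w hw)))
      have hv1 : x * w * x⁻¹ * w⁻¹ ≠ 1 := by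
        intro h
        apply hw1
        apply hfix w hwW
        calc x * w * x⁻¹ = x * w * x⁻¹ * w⁻¹ * w := by group
          _ = w := by rw [h, one_mul]
      have hxV : x ∈ Subgroup.normalizer ((⁅M, Subgroup.zpowers x⁆ : Subgroup G) : Set G) :=
        Cfsg.Agent.Lib.Helper1.le_normalizer_commutator_right M (Subgroup.zpowers x)
          (Subgroup.mem_zpowers x)
      have hv' : x⁻¹ * (x * w * x⁻¹ * w⁻¹) * x ∈ ⁅M, Subgroup.zpowers x⁆ :=
        conj_mem_of_mem_normalizer' hxV (ng_comm_mem M x (hWM hwW))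
      obtain ⟨⟨w', hw'W⟩, hw'⟩ := hfsurj ⟨_, hv'⟩
      have hw'eq : x * w' * x⁻¹ * w'⁻¹ = x⁻¹ * (x * w * x⁻¹ * w⁻¹) * x := congrArg Subtype.val hw'
      have hc' : x * x * w' * (x * x)⁻¹ = x * w * x⁻¹ * w⁻¹ * (x * w' * x⁻¹) := by
        calc x * x * w' * (x * x)⁻¹ = x * (x * w' * x⁻¹ * w'⁻¹) * (w' * x⁻¹) := by group
          _ = x * (x⁻¹ * (x * w * x⁻¹ * w⁻¹) * x) * (w' * x⁻¹) := by rw [hw'eq]
          _ = x * w * x⁻¹ * w⁻¹ * (x * w' * x⁻¹) := by group
      obtain ⟨a, ha⟩ : ∃ a, a = x * w * x⁻¹ := ⟨_, rfl⟩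
      obtain ⟨d, hd⟩ : ∃ d, d = x * w' * x⁻¹ := ⟨_, rfl⟩
      obtain ⟨c, hc0⟩ : ∃ c, c = x * x * w' * (x * x)⁻¹ := ⟨_, rfl⟩
      have hc : c = a * w⁻¹ * d := by rw [hc0, ha, hd]; exact hc'
      have hwM : w ∈ M := hWM hwW
      have haM : a ∈ M := by rw [ha]; exact hMn.conj_mem w hwM x
      have hdM : d ∈ M := by rw [hd]; exact hMn.conj_mem w' (hWM hw'W) x
      have ha1 : a ∈ Subgroup.centralizer (B1 : Set G) := by
        rw [ha, hB1def]; exact ng_conj_cent_map B x (hNB (hWN hwW))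
      have hd1 : d ∈ Subgroup.centralizer (B1 : Set G) := by
        rw [hd, hB1def]; exact ng_conj_cent_map B x (hNB (hWN hw'W))
      have hc2 : c ∈ Subgroup.centralizer (B2 : Set G) := by
        rw [hc0, hB2def]; exact ng_conj_cent_map B (x * x) (hNB (hWN hw'W))
      have hbw : b * w = w * b := Subgroup.mem_centralizer_iff.mp (hNB (hWN hwW)) b hbB
      have hbB1 : ∀ z ∈ B1, b * z = z * b := fun z hz => hFc b hbF z (hB1F hz)
      have hbB2 : ∀ z ∈ B2, b * z = z * b := fun z hz => hFc b hbF z (hB2F hz)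
      have hbw' : b * w⁻¹ * b⁻¹ = w⁻¹ := by
        have h1 : b * w * b⁻¹ = w := by rw [hbw]; group
        calc b * w⁻¹ * b⁻¹ = (b * w * b⁻¹)⁻¹ := by group
          _ = w⁻¹ := by rw [h1]
      have hu2a : b * c * b⁻¹ * c⁻¹ =
          (b * a * b⁻¹) * (b * w⁻¹ * b⁻¹) * (b * d * b⁻¹) * (d⁻¹ * w * a⁻¹) := by
        rw [hc]; group
      rw [hbw'] at hu2a
      have heM : (b * d * b⁻¹) * d⁻¹ ∈ M := M.mul_mem (hMn.conj_mem d hdM b) (M.inv_mem hdM)
      have hwe : w⁻¹ * ((b * d * b⁻¹) * d⁻¹) * w = (b * d * b⁻¹) * d⁻¹ := by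
        have h1 := hMc w hwM _ heM
        calc w⁻¹ * ((b * d * b⁻¹) * d⁻¹) * w = w⁻¹ * (((b * d * b⁻¹) * d⁻¹) * w) := by group
          _ = w⁻¹ * (w * ((b * d * b⁻¹) * d⁻¹)) := by rw [h1]
          _ = (b * d * b⁻¹) * d⁻¹ := by group
      have hu2 : b * c * b⁻¹ * c⁻¹ = (b * a * b⁻¹) * ((b * d * b⁻¹) * d⁻¹) * a⁻¹ := by
        rw [hu2a]
        calc (b * a * b⁻¹) * w⁻¹ * (b * d * b⁻¹) * (d⁻¹ * w * a⁻¹)
            = (b * a * b⁻¹) * (w⁻¹ * ((b * d * b⁻¹) * d⁻¹) * w) * a⁻¹ := by group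
          _ = (b * a * b⁻¹) * ((b * d * b⁻¹) * d⁻¹) * a⁻¹ := by rw [hwe]
      have hu2B1 : b * c * b⁻¹ * c⁻¹ ∈ Subgroup.centralizer (B1 : Set G) := by
        rw [hu2]
        exact Subgroup.mul_mem _ (Subgroup.mul_mem _ (ng_conj_cent_of_comm hbB1 ha1)
          (Subgroup.mul_mem _ (ng_conj_cent_of_comm hbB1 hd1) (Subgroup.inv_mem _ hd1)))
          (Subgroup.inv_mem _ ha1)
      have hu2B2 : b * c * b⁻¹ * c⁻¹ ∈ Subgroup.centralizer (B2 : Set G) :=
        Subgroup.mul_mem _ (ng_conj_cent_of_comm hbB2 hc2) (Subgroup.inv_mem _ hc2)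
      have hu2F : b * c * b⁻¹ * c⁻¹ ∈ Subgroup.centralizer (F : Set G) := by
        have h1 := ng_mem_cent_sup hu2B1 hu2B2
        rwa [hB12] at h1
      -- pull back by `(x * x)⁻¹`
      have hb'F : (x * x)⁻¹ * b * (x * x) ∈ F := conj_mem_of_mem_normalizer' hx2F hbF
      have hpull : (x * x)⁻¹ * (b * c * b⁻¹ * c⁻¹) * (x * x) =
          ((x * x)⁻¹ * b * (x * x)) * w' * ((x * x)⁻¹ * b * (x * x))⁻¹ * w'⁻¹ := by
        rw [hc0]; group
      have h5 : ((x * x)⁻¹ * b * (x * x)) * w' * ((x * x)⁻¹ * b * (x * x))⁻¹ * w'⁻¹ ∈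
          W ⊓ Subgroup.centralizer (F : Set G) := by
        refine ⟨W.mul_mem (conj_mem_of_mem_normalizer (hFW hb'F) hw'W) (W.inv_mem hw'W), ?_⟩
        rw [← hpull]
        exact conj_mem_of_mem_normalizer' (normalizer_le_normalizer_centralizer F hx2F) hu2F
      rw [hWC, Subgroup.mem_bot] at h5
      have h6 : ((x * x)⁻¹ * b * (x * x)) * w' * ((x * x)⁻¹ * b * (x * x))⁻¹ = w' := by
        calc ((x * x)⁻¹ * b * (x * x)) * w' * ((x * x)⁻¹ * b * (x * x))⁻¹
            = ((x * x)⁻¹ * b * (x * x)) * w' * ((x * x)⁻¹ * b * (x * x))⁻¹ * w'⁻¹ * w' := by group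
          _ = w' := by rw [h5, one_mul]
      have hb'B : (x * x)⁻¹ * b * (x * x) ∉ B := by
        intro h
        apply hb2
        rw [hB2def]
        refine ⟨_, h, ?_⟩
        show x * x * ((x * x)⁻¹ * b * (x * x)) * (x * x)⁻¹ = b
        group
      have hsup' : B ⊔ Subgroup.zpowers ((x * x)⁻¹ * b * (x * x)) = F :=
        ng_sup_eq_of_card hF3 hBF hcardB ((Subgroup.zpowers_le).mpr hb'F)
          (fun h => hb'B (h (Subgroup.mem_zpowers _)))
      have h7 : w' ∈ Subgroup.centralizer (F : Set G) := by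
        have h8 := ng_mem_cent_sup (hNB (hWN hw'W)) (ng_mem_cent_zpowers h6)
        rwa [hsup'] at h8
      have h9 : w' ∈ W ⊓ Subgroup.centralizer (F : Set G) := ⟨hw'W, h7⟩
      rw [hWC, Subgroup.mem_bot] at h9
      rw [h9] at hw'eq
      have h10 : x⁻¹ * (x * w * x⁻¹ * w⁻¹) * x = 1 := by
        rw [← hw'eq]; group
      apply hv1
      calc x * w * x⁻¹ * w⁻¹ = x * (x⁻¹ * (x * w * x⁻¹ * w⁻¹) * x) * x⁻¹ := by group
        _ = 1 := by rw [h10]; group

end Cfsg.Agent.Lib.Helper37
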