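import Mathlib
import Cfsg.Agent.S0130
import Cfsg.Agent.Lib.Helper24.ElemAb
import Cfsg.Agent.Lib.Helper38.PChain
import Cfsg.Agent.Lib.Helper37.NG.NGB

/-!
Case A of the lemma: the group has an elementary abelian `3`-subgroup of order at least `27`.
-/

namespace Cfsg.Agent.Lib.Helper37

open scoped commutatorElement Pointwise
open Cfsg.Agent.Lib.Helper31

theorem ng_isEA {G : Type*} [Group G] {p : ℕ} {F : Subgroup G}
    (hc : ∀ a ∈ F, ∀ b ∈ F, a * b = b * a) (he : ∀ a ∈ F, a ^ p = 1) :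
    Cfsg.IsElementaryAbelian p F :=
  ⟨⟨⟨fun u v => Subtype.ext (hc u u.2 v v.2)⟩⟩, he⟩

/-- A `p`-group (`p` odd) with an elementary abelian subgroup of order more than `p ^ 2` has a
normal one. -/
theorem ng_exists_normal_ea {P : Type*} [Group P] [Finite P] {p : ℕ} [Fact p.Prime] (hp2 : p ≠ 2)
    (hP : IsPGroup p P) (E : Subgroup P) (hEc : ∀ x ∈ E, ∀ y ∈ E, x * y = y * x)
    (hEe : ∀ x ∈ E, x ^ p = 1) (hE : p ^ 2 < Nat.card E) :
    ∃ A : Subgroup P, A.Normal ∧ (∀ x ∈ A, ∀ y ∈ A, x * y = y * x) ∧ (∀ x ∈ A, x ^ p = 1) ∧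
      p ^ 2 < Nat.card A := by
  classical
  have hp' : p.Prime := Fact.out
  let S : Type _ := {B : Subgroup P // B.Normal ∧ (∀ x ∈ B, ∀ y ∈ B, x * y = y * x) ∧
    (∀ b ∈ B, b ^ p = 1)}
  have hne : Nonempty S := ⟨⟨⊥, inferInstance,
    by intro x hx y hy; rw [Subgroup.mem_bot] at hx hy; rw [hx, hy],
    by intro b hb; rw [Subgroup.mem_bot] at hb; rw [hb, one_pow]⟩⟩
  obtain ⟨⟨A, hAn, hAc, hAe⟩, hmax⟩ :=
    Finite.exists_max (fun B : S => Nat.card (B.1 : Subgroup P))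
  refine ⟨A, hAn, hAc, hAe, ?_⟩
  by_contra hcard
  push Not at hcard
  haveI := hAn
  have hex : ∃ a ∈ E, a ∉ A ∧ a ∈ Subgroup.centralizer (A : Set P) := by
    obtain ⟨m, hm⟩ := IsPGroup.iff_card.mp (hP.to_subgroup A)
    have hm2 : m ≤ 2 := by
      by_contra h
      push Not at h
      have : p ^ 2 < p ^ m := Nat.pow_lt_pow_right hp'.one_lt h
      omega
    by_cases hm2' : m = 2
    · rw [hm2'] at hm
      exact Cfsg.Agent.Lib.Helper24.exists_centralizing hP A hm E hEc hE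
    · have hm1 : m ≤ 1 := by omega
      have hidx := Cfsg.Agent.Lib.Helper38.index_centralizer_le hP A m hm
      have hexp : m * (m - 1) / 2 = 0 := by interval_cases m <;> simp
      rw [hexp, pow_zero] at hidx
      have htop : Subgroup.centralizer (A : Set P) = ⊤ := by
        apply Subgroup.index_eq_one.mp
        have := Subgroup.index_ne_zero_of_finite (H := Subgroup.centralizer (A : Set P))
        omega
      have hpm : p ^ m ≤ p ^ 2 := Nat.pow_le_pow_right hp'.pos hm2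
      have hnot : ¬ E ≤ A := by
        intro h
        have := Nat.card_le_card_of_injective (Subgroup.inclusion h) (Subgroup.inclusion_injective h)
        omega
      obtain ⟨a, haE, haA⟩ := SetLike.not_le_iff_exists.mp hnot
      exact ⟨a, haE, haA, by rw [htop]; exact Subgroup.mem_top a⟩
  obtain ⟨a, haE, haA, haC⟩ := hex
  apply haA
  refine Cfsg.Agent.S0130.result hP 1 ?_ A ⟨⟨fun u v => Subtype.ext (hAc u u.2 v v.2)⟩⟩
    (fun b hb => by rw [pow_one]; exact hAe b hb) ?_ a haC (by rw [pow_one]; exact hEe a haE)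
  · rw [pow_one]; exact hp2
  · intro B hBn hBc hBe hAB
    have hcB : ∀ x ∈ B, ∀ y ∈ B, x * y = y * x := fun x hx y hy =>
      congrArg Subtype.val (hBc.is_comm.comm ⟨x, hx⟩ ⟨y, hy⟩)
    have h2 := hmax ⟨B, hBn, hcB, fun b hb => by simpa using hBe b hb⟩
    exact (Subgroup.eq_of_le_of_card_ge hAB h2).symm

theorem ng_caseA {S : Type*} [Group S] [Finite S] (M : Subgroup S) [M.Normal]
    (hMc : ∀ a ∈ M, ∀ b ∈ M, a * b = b * a) (hM2 : ∀ a ∈ M, a * a = 1)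
    (x : S) (hx3 : IsPGroup 3 (Subgroup.zpowers x)) (hV : Nat.card ↥⁅M, Subgroup.zpowers x⁆ = 4)
    (A₃ : Subgroup S) (hAc : ∀ a ∈ A₃, ∀ b ∈ A₃, a * b = b * a) (hAe : ∀ a ∈ A₃, a ^ 3 = 1)
    (hA : 9 < Nat.card A₃) :
    ∃ F : Subgroup S, Cfsg.IsElementaryAbelian 3 F ∧ Nat.card F = 3 ^ 3 ∧
      ¬ IsCyclic ↥(F ⊓ Subgroup.centralizer ((⁅M, Subgroup.zpowers x⁆ : Subgroup S) : Set S)) := by
  classical
  haveI : Fact (Nat.Prime 3) := ⟨Nat.prime_three⟩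
  obtain ⟨P, hxP⟩ := hx3.exists_le_sylow
  have hA3 : IsPGroup 3 A₃ := fun a => ⟨1, Subtype.ext (by simpa using hAe a a.2)⟩
  obtain ⟨P', hAP'⟩ := hA3.exists_le_sylow
  obtain ⟨g, hg⟩ := MulAction.exists_smul_eq S P' P
  have hconj : ∀ a ∈ A₃, g * a * g⁻¹ ∈ (P : Subgroup S) := by
    intro a ha
    rw [← hg]
    exact ⟨a, hAP' ha, rfl⟩
  -- the conjugate of `A₃` inside `P`
  obtain ⟨A₃c, hA₃c⟩ : ∃ A₃c : Subgroup S, A₃c = A₃.map (MulAut.conj g).toMonoidHom := ⟨_, rfl⟩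
  have hA₃cP : A₃c ≤ (P : Subgroup S) := by
    rw [hA₃c]
    rintro _ ⟨a, ha, rfl⟩
    exact hconj a ha
  have hA₃ccard : Nat.card A₃c = Nat.card A₃ := by
    rw [hA₃c]; exact Subgroup.card_map_of_injective (MulAut.conj g).injective
  have hA₃cc : ∀ a ∈ A₃c, ∀ b ∈ A₃c, a * b = b * a := by
    rw [hA₃c]
    rintro _ ⟨a, ha, rfl⟩ _ ⟨b, hb, rfl⟩
    show g * a * g⁻¹ * (g * b * g⁻¹) = g * b * g⁻¹ * (g * a * g⁻¹)
    have h1 := hAc a ha b hb
    calc g * a * g⁻¹ * (g * b * g⁻¹) = g * (a * b) * g⁻¹ := by group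
      _ = g * (b * a) * g⁻¹ := by rw [h1]
      _ = g * b * g⁻¹ * (g * a * g⁻¹) := by group
  have hA₃ce : ∀ a ∈ A₃c, a ^ 3 = 1 := by
    rw [hA₃c]
    rintro _ ⟨a, ha, rfl⟩
    show (g * a * g⁻¹) ^ 3 = 1
    rw [conj_pow, hAe a ha]; group
  -- inside the group `P`
  have hPp : IsPGroup 3 (P : Subgroup S) := P.isPGroup'
  have hE'card : Nat.card (A₃c.subgroupOf (P : Subgroup S)) = Nat.card A₃c :=
    Nat.card_congr (Subgroup.subgroupOfEquivOfLe hA₃cP).toEquiv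
  obtain ⟨A, hAn, hAcomm, hAexp, hAcard⟩ := ng_exists_normal_ea (p := 3) (by norm_num) hPp
    (A₃c.subgroupOf (P : Subgroup S))
    (fun u hu v hv => Subtype.ext (hA₃cc u (Subgroup.mem_subgroupOf.mp hu) v
      (Subgroup.mem_subgroupOf.mp hv)))
    (fun u hu => Subtype.ext (by
      have := hA₃ce u (Subgroup.mem_subgroupOf.mp hu)
      simpa using this))
    (by rw [hE'card, hA₃ccard]; norm_num; exact hA)
  -- the normal elementary abelian subgroup, inside `S`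
  obtain ⟨F₀, hF₀⟩ : ∃ F₀ : Subgroup S, F₀ = A.map (P : Subgroup S).subtype := ⟨_, rfl⟩
  have hF₀c : ∀ a ∈ F₀, ∀ b ∈ F₀, a * b = b * a := by
    rw [hF₀]
    rintro _ ⟨a, ha, rfl⟩ _ ⟨b, hb, rfl⟩
    exact congrArg Subtype.val (hAcomm a ha b hb)
  have hF₀e : ∀ a ∈ F₀, a ^ 3 = 1 := by
    rw [hF₀]
    rintro _ ⟨a, ha, rfl⟩
    have := congrArg Subtype.val (hAexp a ha)
    simpa using this
  have hF₀card : Nat.card F₀ = Nat.card A := by
    rw [hF₀]; exact Subgroup.card_map_of_injective (Subgroup.subtype_injective _)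
  have hxPm : x ∈ (P : Subgroup S) := hxP (Subgroup.mem_zpowers x)
  have hPF₀ : ∀ y ∈ (P : Subgroup S), ∀ f ∈ F₀, y * f * y⁻¹ ∈ F₀ := by
    intro y hy f hf
    rw [hF₀] at hf ⊢
    obtain ⟨a, ha, rfl⟩ := hf
    exact ⟨⟨y, hy⟩ * a * ⟨y, hy⟩⁻¹, hAn.conj_mem a ha ⟨y, hy⟩, rfl⟩
  have hxF₀ : x ∈ Subgroup.normalizer (F₀ : Set S) := by
    refine mem_normalizer_of_conj_mem (fun f hf => hPF₀ x hxPm f hf) (fun f hf => ?_)
    have := hPF₀ x⁻¹ (Subgroup.inv_mem _ hxPm) f hf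
    simpa using this
  have hF₀3 : IsPGroup 3 F₀ := fun f => ⟨1, Subtype.ext (by simpa using hF₀e f f.2)⟩
  obtain ⟨j, hj⟩ := IsPGroup.iff_card.mp hF₀3
  have hj3 : 3 ≤ j := by
    by_contra h
    push Not at h
    have : 3 ^ j ≤ 3 ^ 2 := Nat.pow_le_pow_right (by norm_num) (by omega)
    rw [← hj, hF₀card] at this
    omega
  have hF₀27 : 27 ≤ Nat.card F₀ := by
    rw [hj]
    calc 27 = 3 ^ 3 := by norm_num
      _ ≤ 3 ^ j := Nat.pow_le_pow_right (by norm_num) hj3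
  obtain ⟨B, hBF, hBcard, hBV⟩ := ng_hyperplane M hMc hM2 x hx3 hV F₀ (ng_isEA hF₀c hF₀e)
    (by omega) hxF₀
  have hB9 : 9 ≤ Nat.card B := by omega
  obtain ⟨i, hi⟩ := IsPGroup.iff_card.mp (hF₀3.to_le hBF)
  have hi2 : 2 ≤ i := by
    by_contra h
    push Not at h
    have : 3 ^ i ≤ 3 ^ 1 := Nat.pow_le_pow_right (by norm_num) (by omega)
    rw [← hi] at this
    omega
  obtain ⟨K₂, hK₂⟩ := Sylow.exists_subgroup_card_pow_prime (G := B) 3 (n := 2)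
    (by rw [hi]; exact pow_dvd_pow 3 hi2)
  obtain ⟨B₂, hB₂⟩ : ∃ B₂ : Subgroup S, B₂ = K₂.map B.subtype := ⟨_, rfl⟩
  have hB₂B : B₂ ≤ B := by
    rw [hB₂]
    rintro _ ⟨b, _, rfl⟩
    exact b.2
  have hB₂card : Nat.card B₂ = 3 ^ 2 := by
    rw [hB₂, Subgroup.card_map_of_injective (Subgroup.subtype_injective _), hK₂]
  have hB₂F : B₂ ≤ F₀ := hB₂B.trans hBF
  obtain ⟨K, hKcard, hKle⟩ := Sylow.exists_subgroup_card_pow_prime_le (G := F₀) 3 (m := 3) (n := 2)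
    (by rw [hj]; exact pow_dvd_pow 3 hj3) (B₂.subgroupOf F₀)
    (by rw [Nat.card_congr (Subgroup.subgroupOfEquivOfLe hB₂F).toEquiv, hB₂card]) (by norm_num)
  obtain ⟨F, hFdef⟩ : ∃ F : Subgroup S, F = K.map F₀.subtype := ⟨_, rfl⟩
  have hFF₀ : F ≤ F₀ := by
    rw [hFdef]
    rintro _ ⟨b, _, rfl⟩
    exact b.2
  have hFcard : Nat.card F = 3 ^ 3 := by
    rw [hFdef, Subgroup.card_map_of_injective (Subgroup.subtype_injective _), hKcard]
  have hB₂F' : B₂ ≤ F := by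
    intro b hb
    rw [hFdef]
    exact ⟨⟨b, hB₂F hb⟩, hKle (Subgroup.mem_subgroupOf.mpr hb), rfl⟩
  refine ⟨F, ng_isEA (fun a ha b hb => hF₀c a (hFF₀ ha) b (hFF₀ hb)) (fun a ha => hF₀e a (hFF₀ ha)),
    hFcard, ?_⟩
  refine ng_not_cyclic Nat.prime_three _ (fun a ha => hF₀e a (hFF₀ ha.1)) ?_
  have hle : B₂ ≤ F ⊓ Subgroup.centralizer ((⁅M, Subgroup.zpowers x⁆ : Subgroup S) : Set S) :=
    le_inf hB₂F' (hB₂B.trans hBV)
  calc 3 ^ 2 = Nat.card B₂ := hB₂card.symm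
    _ ≤ _ := Nat.le_of_dvd Nat.card_pos (Subgroup.card_dvd_of_le hle)

end Cfsg.Agent.Lib.Helper37
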