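import Mathlib
import Cfsg.Agent.Lib.Helper34.TwoF
import Cfsg.Agent.Lib.Helper37.NG.NGB

/-!
The faithful case: a `p`-group `R` (`p ≥ 5`) acting faithfully on the normal elementary abelian
`2`-subgroup `M`, normalized by an element `x` of order `3` with `[M, x]` of order `4`, normalizes
a subgroup `U` of `M` of order `4` or `8` containing `[M, x]`.
-/

namespace Cfsg.Agent.Lib.Helper37

open scoped commutatorElement
open Cfsg.Agent.Lib.Helper31

variable {G : Type*} [Group G]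

theorem ng_comm_mem_sub (M T : Subgroup G) {t m : G} (ht : t ∈ T) (hm : m ∈ M) :
    t * m * t⁻¹ * m⁻¹ ∈ ⁅M, T⁆ := by
  have h1 : ⁅t, m⁆ ∈ ⁅T, M⁆ := Subgroup.commutator_mem_commutator ht hm
  rw [Subgroup.commutator_comm] at h1
  exact h1

section faithful

variable [Finite G] (M : Subgroup G) [hMn : M.Normal] (hMc : ∀ a ∈ M, ∀ b ∈ M, a * b = b * a)
  (hM2 : ∀ a ∈ M, a * a = 1)

include hMc hM2 in
/-- `[M, T] ∩ C(T) = 1` for a group `T` of odd prime power order. -/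
theorem ng_comm_inf_cent {p : ℕ} [Fact p.Prime] (hp2 : p ≠ 2) (T : Subgroup G) (hT : IsPGroup p T) :
    ⁅M, T⁆ ⊓ Subgroup.centralizer (T : Set G) = ⊥ := by
  haveI : IsMulCommutative M := ⟨⟨fun u v => Subtype.ext (hMc u u.2 v v.2)⟩⟩
  have hcop : (Nat.card T).Coprime (Nat.card M) := ng_coprime hp2 hT hM2
  have h1 := Cfsg.Agent.Lib.Helper1.abelian_centralizer_inf_commutator T M
    Subgroup.le_normalizer_of_normal hcop
  rw [eq_bot_iff]
  intro v hv
  rw [← h1]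
  exact ⟨⟨Subgroup.commutator_le_left M _ hv.1, hv.2⟩, hv.1⟩

include hMc hM2 in
theorem ng_small_card {p : ℕ} [Fact p.Prime] (hp5 : 5 ≤ p) (T : Subgroup G) (hT : IsPGroup p T)
    (hTM : ¬ T ≤ Subgroup.centralizer (M : Set G)) (hcard : Nat.card ↥⁅M, T⁆ ≤ 16) :
    (p = 5 ∧ Nat.card ↥⁅M, T⁆ = 16) ∨ (p = 7 ∧ Nat.card ↥⁅M, T⁆ = 8) := by
  have hp : p.Prime := Fact.out
  have hTD : T ≤ Subgroup.normalizer ((⁅M, T⁆ : Subgroup G) : Set G) :=
    Cfsg.Agent.Lib.Helper1.le_normalizer_commutator_right M T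
  have h1 := ng_card_modEq_fix T ⁅M, T⁆ hT hTD
  rw [ng_comm_inf_cent M hMc hM2 (by omega) T hT, Subgroup.card_bot] at h1
  obtain ⟨j, hj⟩ := ng_card_two_pow (N := ⁅M, T⁆)
    (fun n hn => hM2 n (Subgroup.commutator_le_left M T hn))
  have hne : ⁅M, T⁆ ≠ ⊥ := by
    intro h
    rw [Subgroup.commutator_comm] at h
    exact hTM (Subgroup.commutator_eq_bot_iff_le_centralizer.mp h)
  have hj4 : j ≤ 4 := by
    by_contra h
    push Not at h
    have : 2 ^ 5 ≤ 2 ^ j := Nat.pow_le_pow_right (by norm_num) h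
    omega
  have hj0 : j ≠ 0 := by
    rintro rfl
    rw [pow_zero] at hj
    exact hne (Subgroup.card_eq_one.mp hj)
  rw [hj] at h1 ⊢
  have h2 : p ∣ 2 ^ j - 1 := (Nat.modEq_iff_dvd' (Nat.one_le_two_pow)).mp h1.symm
  interval_cases j
  · exact absurd rfl hj0
  · have := Nat.le_of_dvd (by norm_num) h2
    omega
  · have := Nat.le_of_dvd (by norm_num) h2
    omega
  · right
    have h3 : p ∣ 7 := by simpa using h2
    exact ⟨(Nat.prime_dvd_prime_iff_eq hp (by norm_num)).mp h3, by norm_num⟩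
  · left
    have h3 : p ∣ 3 * 5 := by simpa using h2
    rcases (Nat.Prime.dvd_mul hp).mp h3 with h4 | h4
    · have := Nat.le_of_dvd (by norm_num) h4
      omega
    · exact ⟨(Nat.prime_dvd_prime_iff_eq hp (by norm_num)).mp h4, by norm_num⟩

include hMc hM2 in
theorem ng_small {p : ℕ} [Fact p.Prime] (hp5 : 5 ≤ p) (T : Subgroup G) (hT : IsPGroup p T)
    (hfaith : T ⊓ Subgroup.centralizer (M : Set G) = ⊥) (hne : T ≠ ⊥)
    (hcard : Nat.card ↥⁅M, T⁆ ≤ 16) :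
    Nat.card T = p ∧ ((p = 5 ∧ Nat.card ↥⁅M, T⁆ = 16) ∨ (p = 7 ∧ Nat.card ↥⁅M, T⁆ = 8)) := by
  have hp : p.Prime := Fact.out
  have hTM : ¬ T ≤ Subgroup.centralizer (M : Set G) := by
    intro h
    apply hne
    rw [eq_bot_iff, ← hfaith]
    exact le_inf le_rfl h
  have hdich := ng_small_card M hMc hM2 hp5 T hT hTM hcard
  refine ⟨?_, hdich⟩
  have hDne : ⁅M, T⁆ ≠ ⊥ := by
    intro h
    rw [h, Subgroup.card_bot] at hdich
    omega
  obtain ⟨u, huD, hu1⟩ : ∃ u ∈ ⁅M, T⁆, u ≠ 1 := by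
    by_contra hcon
    push Not at hcon
    exact hDne ((Subgroup.eq_bot_iff_forall _).mpr hcon)
  have hstab : T ⊓ Subgroup.centralizer ({u} : Set G) = ⊥ := by
    by_contra hne'
    obtain ⟨Tu, hTu⟩ : ∃ Tu : Subgroup G, Tu = T ⊓ Subgroup.centralizer ({u} : Set G) := ⟨_, rfl⟩
    rw [← hTu] at hne'
    have hTuT : Tu ≤ T := by rw [hTu]; exact inf_le_left
    have hTuM : ¬ Tu ≤ Subgroup.centralizer (M : Set G) := by
      intro h
      apply hne'
      rw [eq_bot_iff, ← hfaith]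
      exact le_inf hTuT h
    have hle : ⁅M, Tu⁆ ≤ ⁅M, T⁆ := Subgroup.commutator_mono le_rfl hTuT
    have hcard' : Nat.card ↥⁅M, Tu⁆ ≤ 16 := (Subgroup.card_le_of_le hle).trans hcard
    have hd' := ng_small_card M hMc hM2 hp5 Tu (hT.to_le hTuT) hTuM hcard'
    have heq : ⁅M, Tu⁆ = ⁅M, T⁆ := Subgroup.eq_of_le_of_card_ge hle (by
      rcases hdich with ⟨h1, h2⟩ | ⟨h1, h2⟩ <;> rcases hd' with ⟨h3, h4⟩ | ⟨h3, h4⟩ <;> omega)
    have hu : u ∈ ⁅M, Tu⁆ ⊓ Subgroup.centralizer (Tu : Set G) := by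
      refine ⟨heq ▸ huD, ?_⟩
      refine Subgroup.mem_centralizer_iff.mpr (fun t ht => ?_)
      rw [hTu] at ht
      exact (Subgroup.mem_centralizer_singleton_iff.mp ht.2)
    rw [ng_comm_inf_cent M hMc hM2 (by omega) Tu (hT.to_le hTuT), Subgroup.mem_bot] at hu
    exact hu1 hu
  have hTD : T ≤ Subgroup.normalizer ((⁅M, T⁆ : Subgroup G) : Set G) :=
    Cfsg.Agent.Lib.Helper1.le_normalizer_commutator_right M T
  have hinj : Function.Injective (fun t : T => (⟨(t : G) * u * (t : G)⁻¹,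
      ((Subgroup.mem_normalizer_iff.mp (hTD t.2)) u).mp huD⟩ : ↥⁅M, T⁆)) := by
    intro s t hst
    have h1 : (s : G) * u * (s : G)⁻¹ = (t : G) * u * (t : G)⁻¹ := congrArg Subtype.val hst
    have h2 : (t : G)⁻¹ * (s : G) ∈ T ⊓ Subgroup.centralizer ({u} : Set G) := by
      refine ⟨T.mul_mem (T.inv_mem t.2) s.2, Subgroup.mem_centralizer_singleton_iff.mpr ?_⟩
      calc (t : G)⁻¹ * (s : G) * u = (t : G)⁻¹ * ((s : G) * u * (s : G)⁻¹) * (s : G) := by group
        _ = (t : G)⁻¹ * ((t : G) * u * (t : G)⁻¹) * (s : G) := by rw [h1]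
        _ = u * ((t : G)⁻¹ * (s : G)) := by group
    rw [hstab, Subgroup.mem_bot] at h2
    apply Subtype.ext
    calc (s : G) = (t : G) * ((t : G)⁻¹ * (s : G)) := by group
      _ = (t : G) := by rw [h2, mul_one]
  have hle : Nat.card T ≤ Nat.card ↥⁅M, T⁆ := Nat.card_le_card_of_injective _ hinj
  obtain ⟨n, hn⟩ := IsPGroup.iff_card.mp hT
  have hn0 : n ≠ 0 := by
    rintro rfl
    rw [pow_zero] at hn
    exact hne (Subgroup.card_eq_one.mp hn)
  have hn1 : n < 2 := by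
    by_contra h
    push Not at h
    have h1 : p ^ 2 ≤ p ^ n := Nat.pow_le_pow_right hp.pos h
    have h2 : 25 ≤ p ^ 2 := by nlinarith
    omega
  have hn' : n = 1 := by omega
  rw [hn, hn', pow_one]

include hMc hM2 in
theorem ng_alpha_aux {p : ℕ} [Fact p.Prime] (hp2 : p ≠ 2) (a : G)
    (ha : IsPGroup 3 (Subgroup.zpowers a)) (hV : Nat.card ↥⁅M, Subgroup.zpowers a⁆ = 4)
    (Y : Subgroup G) (hY : IsPGroup p Y) (haY : a ∈ Subgroup.normalizer (Y : Set G))
    (hfaith : Y ⊓ Subgroup.centralizer (M : Set G) = ⊥) {y : G} (hy : y ∈ Y)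
    (hay : a * y ≠ y * a) : ⁅M, Subgroup.zpowers a⁆ ≤ ⁅M, Y⁆ := by
  have haD : Subgroup.zpowers a ≤ Subgroup.normalizer ((⁅M, Y⁆ : Subgroup G) : Set G) := by
    rw [Subgroup.zpowers_le]
    exact Cfsg.Agent.Lib.Helper61.normalizer_inf_le_normalizer_commutator M Y
      ⟨Subgroup.le_normalizer_of_normal (K := ⊤) (Subgroup.mem_top a), haY⟩
  rcases ng_invariant M hMc hM2 a ha hV ⁅M, Y⁆ (Subgroup.commutator_le_left M Y) haD with h | h
  · exfalso
    obtain ⟨c, hc⟩ : ∃ c : G, c = a * y * a⁻¹ * y⁻¹ := ⟨_, rfl⟩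
    have hcY : c ∈ Y := by
      rw [hc]
      exact Y.mul_mem (conj_mem_of_mem_normalizer haY hy) (Y.inv_mem hy)
    have hc1 : c ≠ 1 := by
      intro h1
      apply hay
      calc a * y = (a * y * a⁻¹ * y⁻¹) * y * a := by group
        _ = y * a := by rw [← hc, h1, one_mul]
    have hcD : ∀ u ∈ ⁅M, Y⁆, c * u * c⁻¹ = u := by
      intro u hu
      have hYD : Y ≤ Subgroup.normalizer ((⁅M, Y⁆ : Subgroup G) : Set G) :=
        Cfsg.Agent.Lib.Helper1.le_normalizer_commutator_right M Y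
      have hu' : y⁻¹ * u * y ∈ ⁅M, Y⁆ := conj_mem_of_mem_normalizer' (hYD hy) hu
      have e1 : a * (y⁻¹ * u * y) * a⁻¹ = y⁻¹ * u * y := ng_conj_of_mem_cent_zpowers (h hu')
      have e2 : a * u * a⁻¹ = u := ng_conj_of_mem_cent_zpowers (h hu)
      have e1' : a⁻¹ * (y⁻¹ * u * y) * a = y⁻¹ * u * y := by
        calc a⁻¹ * (y⁻¹ * u * y) * a = a⁻¹ * (a * (y⁻¹ * u * y) * a⁻¹) * a := by rw [e1]
          _ = y⁻¹ * u * y := by group
      calc c * u * c⁻¹ = a * y * (a⁻¹ * (y⁻¹ * u * y) * a) * y⁻¹ * a⁻¹ := by rw [hc]; group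
        _ = a * y * (y⁻¹ * u * y) * y⁻¹ * a⁻¹ := by rw [e1']
        _ = a * u * a⁻¹ := by group
        _ = u := e2
    have hZ : IsPGroup p (Subgroup.zpowers c) := hY.to_le (Subgroup.zpowers_le.mpr hcY)
    have h1 : ⁅M, Subgroup.zpowers c⁆ ≤ ⁅M, Y⁆ :=
      Subgroup.commutator_mono le_rfl (Subgroup.zpowers_le.mpr hcY)
    have h2 : ⁅M, Subgroup.zpowers c⁆ ≤
        Subgroup.centralizer ((Subgroup.zpowers c : Subgroup G) : Set G) :=
      fun u hu => ng_mem_cent_zpowers (hcD u (h1 hu))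
    have h3 : ⁅M, Subgroup.zpowers c⁆ = ⊥ := by
      rw [eq_bot_iff, ← ng_comm_inf_cent M hMc hM2 hp2 (Subgroup.zpowers c) hZ]
      exact le_inf le_rfl h2
    have h4 : c ∈ Y ⊓ Subgroup.centralizer (M : Set G) := by
      refine ⟨hcY, ?_⟩
      rw [Subgroup.commutator_comm] at h3
      exact Subgroup.commutator_eq_bot_iff_le_centralizer.mp h3 (Subgroup.mem_zpowers c)
    rw [hfaith, Subgroup.mem_bot] at h4
    exact hc1 h4
  · exact h

include hMc hM2 in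
theorem ng_alpha {p : ℕ} [Fact p.Prime] (hp5 : 5 ≤ p) (x : G) (hx3 : x ^ 3 = 1)
    (hV : Nat.card ↥⁅M, Subgroup.zpowers x⁆ = 4) (R : Subgroup G) (hR : IsPGroup p R)
    (hxR : x ∈ Subgroup.normalizer (R : Set G))
    (hfaith : R ⊓ Subgroup.centralizer (M : Set G) = ⊥) (g : G) (hg : g ∈ R)
    (hgx : g * x * g⁻¹ ≠ x) :
    p = 7 ∧
      Nat.card ↥(⁅M, Subgroup.zpowers x⁆ ⊔ ⁅M, Subgroup.zpowers (g * x * g⁻¹)⁆ : Subgroup G) = 8 ∧
      ∃ Y : Subgroup G, Y ≤ R ∧ Nat.card Y = 7 ∧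
        ⁅M, Y⁆ = ⁅M, Subgroup.zpowers x⁆ ⊔ ⁅M, Subgroup.zpowers (g * x * g⁻¹)⁆ := by
  have hp : p.Prime := Fact.out
  have hp2 : p ≠ 2 := by omega
  obtain ⟨x', hx'⟩ : ∃ x' : G, x' = g * x * g⁻¹ := ⟨_, rfl⟩
  rw [← hx'] at hgx ⊢
  have hx'3 : x' ^ 3 = 1 := by rw [hx', conj_pow, hx3]; group
  have hx3P : IsPGroup 3 (Subgroup.zpowers x) := ng_isPGroup_zpowers hx3
  have hx'3P : IsPGroup 3 (Subgroup.zpowers x') := ng_isPGroup_zpowers hx'3
  have hV' : Nat.card ↥⁅M, Subgroup.zpowers x'⁆ = 4 := by rw [hx', ng_card_conj_V, hV]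
  have hgN : g ∈ Subgroup.normalizer (R : Set G) := Subgroup.le_normalizer hg
  have hx'R : x' ∈ Subgroup.normalizer (R : Set G) := by
    rw [hx']
    exact Subgroup.mul_mem _ (Subgroup.mul_mem _ hgN hxR) (Subgroup.inv_mem _ hgN)
  obtain ⟨W, hW⟩ : ∃ W : Subgroup G,
    W = ⁅M, Subgroup.zpowers x⁆ ⊔ ⁅M, Subgroup.zpowers x'⁆ := ⟨_, rfl⟩
  rw [← hW]
  have hVM : ⁅M, Subgroup.zpowers x⁆ ≤ M := Subgroup.commutator_le_left M _
  have hV'M : ⁅M, Subgroup.zpowers x'⁆ ≤ M := Subgroup.commutator_le_left M _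
  have hWM : W ≤ M := by rw [hW]; exact sup_le hVM hV'M
  have hWcard : Nat.card W ≤ 16 := by
    have := ng_card_sup_le M _ _ hMc hVM hV'M
    rw [hV, hV'] at this
    rw [hW]
    exact this
  obtain ⟨L, hL⟩ : ∃ L : Subgroup G, L = Subgroup.closure {x, x'} := ⟨_, rfl⟩
  have hxL : x ∈ L := by rw [hL]; exact Subgroup.subset_closure (by simp)
  have hx'L : x' ∈ L := by rw [hL]; exact Subgroup.subset_closure (by simp)
  have hLtriv : ∀ t ∈ L, ∀ m ∈ M, t * m * t⁻¹ * m⁻¹ ∈ W := by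
    rw [hL]
    refine ng_comm_le_of_closure M W hWM _ ?_
    intro t ht m hm
    rw [hW]
    rcases ht with rfl | ht
    · exact Subgroup.mem_sup_left (ng_comm_mem M t hm)
    · rw [Set.mem_singleton_iff] at ht
      subst ht
      exact Subgroup.mem_sup_right (ng_comm_mem M _ hm)
  obtain ⟨Y, hYdef⟩ : ∃ Y : Subgroup G, Y = L ⊓ R := ⟨_, rfl⟩
  have hYR : Y ≤ R := by rw [hYdef]; exact inf_le_right
  have hYL : Y ≤ L := by rw [hYdef]; exact inf_le_left
  have hYP : IsPGroup p Y := hR.to_le hYR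
  have hYW : ⁅M, Y⁆ ≤ W := ng_comm_le_of_triv M W Y (fun t ht => hLtriv t (hYL ht))
  have hYfaith : Y ⊓ Subgroup.centralizer (M : Set G) = ⊥ := by
    rw [eq_bot_iff, ← hfaith]
    exact inf_le_inf_right _ hYR
  obtain ⟨y, hy⟩ : ∃ y : G, y = x⁻¹ * x' := ⟨_, rfl⟩
  have hyL : y ∈ L := by rw [hy]; exact L.mul_mem (L.inv_mem hxL) hx'L
  have hyR : y ∈ R := by
    have h1 : x⁻¹ * g * x ∈ R := conj_mem_of_mem_normalizer' hxR hg
    have e : y = (x⁻¹ * g * x) * g⁻¹ := by rw [hy, hx']; group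
    rw [e]
    exact R.mul_mem h1 (R.inv_mem hg)
  have hyY : y ∈ Y := by rw [hYdef]; exact ⟨hyL, hyR⟩
  have hy1 : y ≠ 1 := by
    intro h
    apply hgx
    calc x' = x * (x⁻¹ * x') := by group
      _ = x := by rw [← hy, h, mul_one]
  have hYne : Y ≠ ⊥ := by
    intro h
    rw [h, Subgroup.mem_bot] at hyY
    exact hy1 hyY
  obtain ⟨k, hk⟩ : ∃ k : ℕ, y ^ p ^ k = 1 := by
    obtain ⟨k, hk⟩ := hYP ⟨y, hyY⟩
    exact ⟨k, by simpa using congrArg Subtype.val hk⟩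
  have hy3 : y ^ 3 ≠ 1 := by
    intro h3
    have h1 : orderOf y ∣ 3 := orderOf_dvd_of_pow_eq_one h3
    have h2 : orderOf y ∣ p ^ k := orderOf_dvd_of_pow_eq_one hk
    have h3' : orderOf y ∣ Nat.gcd 3 (p ^ k) := Nat.dvd_gcd h1 h2
    have hcop : Nat.Coprime 3 (p ^ k) := Nat.Coprime.pow_right k
      ((Nat.coprime_primes Nat.prime_three hp).mpr (by omega))
    rw [Nat.Coprime.gcd_eq_one hcop] at h3'
    exact hy1 (orderOf_eq_one_iff.mp (Nat.dvd_one.mp h3'))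
  have hxy : x * y ≠ y * x := by
    intro h
    have hc : Commute x y := h
    have e : x' = x * y := by rw [hy]; group
    have h1 := hc.mul_pow 3
    rw [← e, hx'3, hx3, one_mul] at h1
    exact hy3 h1.symm
  have hx'y : x' * y ≠ y * x' := by
    intro h
    have hc : Commute x' y⁻¹ := Commute.inv_right (h : Commute x' y)
    have e : x = x' * y⁻¹ := by rw [hy]; group
    have h1 := hc.mul_pow 3
    rw [← e, hx'3, hx3, one_mul, inv_pow] at h1
    exact hy3 (inv_eq_one.mp h1.symm)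
  have hxY : x ∈ Subgroup.normalizer (Y : Set G) := by
    rw [hYdef]; exact mem_normalizer_inf (Subgroup.le_normalizer hxL) hxR
  have hx'Y : x' ∈ Subgroup.normalizer (Y : Set G) := by
    rw [hYdef]; exact mem_normalizer_inf (Subgroup.le_normalizer hx'L) hx'R
  have hVY : ⁅M, Subgroup.zpowers x⁆ ≤ ⁅M, Y⁆ :=
    ng_alpha_aux M hMc hM2 hp2 x hx3P hV Y hYP hxY hYfaith hyY hxy
  have hV'Y : ⁅M, Subgroup.zpowers x'⁆ ≤ ⁅M, Y⁆ :=
    ng_alpha_aux M hMc hM2 hp2 x' hx'3P hV' Y hYP hx'Y hYfaith hyY hx'y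
  have hYeq : ⁅M, Y⁆ = W := le_antisymm hYW (by rw [hW]; exact sup_le hVY hV'Y)
  have hYcard : Nat.card ↥⁅M, Y⁆ ≤ 16 := by rw [hYeq]; exact hWcard
  obtain ⟨hcY, hd⟩ := ng_small M hMc hM2 hp5 Y hYP hYfaith hYne hYcard
  have hp7 : p = 7 ∧ Nat.card ↥⁅M, Y⁆ = 8 := by
    rcases hd with ⟨h5, -⟩ | h7
    · exfalso
      haveI : Fact (Nat.Prime 3) := ⟨Nat.prime_three⟩
      have h1 := ng_card_modEq_fix (Subgroup.zpowers x) Y hx3P (Subgroup.zpowers_le.mpr hxY)
      obtain ⟨F, hF⟩ : ∃ F : Subgroup G,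
        F = Y ⊓ Subgroup.centralizer ((Subgroup.zpowers x : Subgroup G) : Set G) := ⟨_, rfl⟩
      rw [← hF, hcY, h5] at h1
      have hFY : F ≤ Y := by rw [hF]; exact inf_le_left
      have h2 : Nat.card F ∣ 5 := by
        have := Subgroup.card_dvd_of_le hFY
        rwa [hcY, h5] at this
      have h3 : Nat.card F = 5 := by
        have h5' : 5 % 3 = Nat.card F % 3 := h1
        rcases (Nat.dvd_prime (by norm_num)).mp h2 with h6 | h6
        · rw [h6] at h5'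
          omega
        · exact h6
      have h4 : Y ≤ Subgroup.centralizer ((Subgroup.zpowers x : Subgroup G) : Set G) := by
        have : F = Y := Subgroup.eq_of_le_of_card_ge hFY (by rw [h3, hcY, h5])
        rw [← this, hF]; exact inf_le_right
      have h5'' := ng_conj_of_mem_cent_zpowers (h4 hyY)
      apply hxy
      calc x * y = x * y * x⁻¹ * x := by group
        _ = y * x := by rw [h5'']
    · exact h7
  refine ⟨hp7.1, ?_, Y, hYR, ?_, hYeq⟩
  · rw [← hYeq]; exact hp7.2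
  · rw [hcY, hp7.1]

include hMc hM2 in
/-- The faithful case. -/
theorem ng_faithful {p : ℕ} [Fact p.Prime] (hp5 : 5 ≤ p) (x : G) (hx3 : x ^ 3 = 1)
    (hV : Nat.card ↥⁅M, Subgroup.zpowers x⁆ = 4) (R : Subgroup G) (hR : IsPGroup p R)
    (hxR : x ∈ Subgroup.normalizer (R : Set G))
    (hfaith : R ⊓ Subgroup.centralizer (M : Set G) = ⊥) :
    ∃ U : Subgroup G, ⁅M, Subgroup.zpowers x⁆ ≤ U ∧ U ≤ M ∧
      R ≤ Subgroup.normalizer (U : Set G) ∧ (Nat.card U = 4 ∨ Nat.card U = 8) := by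
  classical
  have hVM : ⁅M, Subgroup.zpowers x⁆ ≤ M := Subgroup.commutator_le_left M _
  have hnorm : ∀ U : Subgroup G, (∀ h ∈ R, U.map (MulAut.conj h).toMonoidHom ≤ U) →
      R ≤ Subgroup.normalizer (U : Set G) := by
    intro U hU h hh
    apply mem_normalizer_of_conj_mem
    · intro u hu
      exact hU h hh ⟨u, hu, rfl⟩
    · intro u hu
      have := hU h⁻¹ (R.inv_mem hh) ⟨u, hu, rfl⟩
      simpa using this
  by_cases hall : ∀ g ∈ R, g * x * g⁻¹ = x
  · refine ⟨⁅M, Subgroup.zpowers x⁆, le_rfl, hVM, hnorm _ ?_, Or.inl hV⟩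
    intro h hh
    rw [← ng_conj_V, hall h hh]
  · push Not at hall
    obtain ⟨g₀, hg₀, hg₀x⟩ := hall
    obtain ⟨hp7, hU8, Y₀, hY₀R, hY₀c, hY₀eq⟩ :=
      ng_alpha M hMc hM2 hp5 x hx3 hV R hR hxR hfaith g₀ hg₀ hg₀x
    obtain ⟨U, hUdef⟩ : ∃ U : Subgroup G,
      U = ⁅M, Subgroup.zpowers x⁆ ⊔ ⁅M, Subgroup.zpowers (g₀ * x * g₀⁻¹)⁆ := ⟨_, rfl⟩
    rw [← hUdef] at hU8 hY₀eq
    have hVU : ⁅M, Subgroup.zpowers x⁆ ≤ U := by rw [hUdef]; exact le_sup_left
    have hUM : U ≤ M := by rw [hUdef]; exact sup_le hVM (Subgroup.commutator_le_left M _)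
    have key : ∀ h ∈ R, ⁅M, Subgroup.zpowers (h * x * h⁻¹)⁆ ≤ U := by
      intro h hh
      by_cases hhx : h * x * h⁻¹ = x
      · rw [hhx]; exact hVU
      · obtain ⟨-, hW8, Y, hYR, hYc, hYeq⟩ :=
          ng_alpha M hMc hM2 hp5 x hx3 hV R hR hxR hfaith h hh hhx
        obtain ⟨W, hWdef⟩ : ∃ W : Subgroup G,
          W = ⁅M, Subgroup.zpowers x⁆ ⊔ ⁅M, Subgroup.zpowers (h * x * h⁻¹)⁆ := ⟨_, rfl⟩
        rw [← hWdef] at hW8 hYeq
        have hVW : ⁅M, Subgroup.zpowers x⁆ ≤ W := by rw [hWdef]; exact le_sup_left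
        have hWM : W ≤ M := by rw [hWdef]; exact sup_le hVM (Subgroup.commutator_le_left M _)
        obtain ⟨u, huW, huV⟩ : ∃ u ∈ W, u ∉ ⁅M, Subgroup.zpowers x⁆ := by
          by_contra hcon
          push Not at hcon
          have h1 : W ≤ ⁅M, Subgroup.zpowers x⁆ := hcon
          have h2 := Subgroup.card_le_of_le h1
          omega
        have hu2 : u * u = 1 := hM2 u (hWM huW)
        have hcs := Cfsg.Agent.Lib.Helper34.card_sup_zpowers ⁅M, Subgroup.zpowers x⁆ u hu2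
          (fun v hv => hMc u (hWM huW) v (hVM hv)) huV
        have hWeq : ⁅M, Subgroup.zpowers x⁆ ⊔ Subgroup.zpowers u = W :=
          Subgroup.eq_of_le_of_card_ge (sup_le hVW (Subgroup.zpowers_le.mpr huW))
            (by rw [hcs, hV, hW8])
        have hUW : U ⊔ W = U ⊔ Subgroup.zpowers u := by
          rw [← hWeq, ← sup_assoc, sup_eq_left.mpr hVU]
        have hzu : Nat.card (Subgroup.zpowers u) ≤ 2 := by
          rw [Nat.card_zpowers]
          exact orderOf_le_of_pow_eq_one (by norm_num) (by rw [pow_two]; exact hu2)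
        have hUWcard : Nat.card (U ⊔ W : Subgroup G) ≤ 16 := by
          rw [hUW]
          have h1 := ng_card_sup_le M U (Subgroup.zpowers u) hMc hUM
            (Subgroup.zpowers_le.mpr (hWM huW))
          calc _ ≤ Nat.card U * Nat.card (Subgroup.zpowers u) := h1
            _ ≤ 8 * 2 := by rw [hU8]; exact Nat.mul_le_mul_left _ hzu
        obtain ⟨T, hTdef⟩ : ∃ T : Subgroup G, T = Y₀ ⊔ Y := ⟨_, rfl⟩
        have hY₀T : Y₀ ≤ T := by rw [hTdef]; exact le_sup_left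
        have hYT : Y ≤ T := by rw [hTdef]; exact le_sup_right
        have hTR : T ≤ R := by rw [hTdef]; exact sup_le hY₀R hYR
        have hTP : IsPGroup p T := hR.to_le hTR
        have hTfaith : T ⊓ Subgroup.centralizer (M : Set G) = ⊥ := by
          rw [eq_bot_iff, ← hfaith]; exact inf_le_inf_right _ hTR
        have hTne : T ≠ ⊥ := by
          intro hbot
          have h1 : Y₀ = ⊥ := by rw [eq_bot_iff, ← hbot]; exact hY₀T
          rw [h1, Subgroup.card_bot] at hY₀c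
          omega
        have hTtriv : ∀ t ∈ T, ∀ m ∈ M, t * m * t⁻¹ * m⁻¹ ∈ U ⊔ W := by
          rw [hTdef, Subgroup.sup_eq_closure]
          refine ng_comm_le_of_closure M (U ⊔ W) (sup_le hUM hWM) _ ?_
          intro t ht m hm
          rcases ht with ht | ht
          · refine Subgroup.mem_sup_left ?_
            rw [← hY₀eq]
            exact ng_comm_mem_sub M Y₀ ht hm
          · refine Subgroup.mem_sup_right ?_
            rw [← hYeq]
            exact ng_comm_mem_sub M Y ht hm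
        have hTcard : Nat.card ↥⁅M, T⁆ ≤ 16 :=
          (Subgroup.card_le_of_le (ng_comm_le_of_triv M (U ⊔ W) T hTtriv)).trans hUWcard
        obtain ⟨hTc, -⟩ := ng_small M hMc hM2 hp5 T hTP hTfaith hTne hTcard
        have e1 : Y₀ = T := Subgroup.eq_of_le_of_card_ge hY₀T (by rw [hTc, hY₀c, hp7])
        have e2 : Y = T := Subgroup.eq_of_le_of_card_ge hYT (by rw [hTc, hYc, hp7])
        have e3 : W = U := by rw [← hYeq, ← hY₀eq, e1, e2]
        rw [← e3, hWdef]; exact le_sup_right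
    refine ⟨U, hVU, hUM, hnorm U ?_, Or.inr hU8⟩
    intro h hh
    have e : h * (g₀ * x * g₀⁻¹) * h⁻¹ = (h * g₀) * x * (h * g₀)⁻¹ := by group
    have e1 : U.map (MulAut.conj h).toMonoidHom =
        ⁅M, Subgroup.zpowers (h * x * h⁻¹)⁆ ⊔ ⁅M, Subgroup.zpowers ((h * g₀) * x * (h * g₀)⁻¹)⁆ := by
      rw [hUdef, Subgroup.map_sup, ← ng_conj_V, ← ng_conj_V, e]
    rw [e1]
    exact sup_le (key h hh) (key (h * g₀) (R.mul_mem hh hg₀))

end faithful

end Cfsg.Agent.Lib.Helper37
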