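import Mathlib
import Cfsg.Agent.Lib.Helper37.NG.NGD

/-!
Removing the faithfulness hypothesis: transport to the semidirect product of `M` with its
automorphism group.
-/

namespace Cfsg.Agent.Lib.Helper37

open scoped commutatorElement
open Cfsg.Agent.Lib.Helper31

theorem ng_sd_conj {N : Type*} [Group N] (a : MulAut N) (n : N) :
    (SemidirectProduct.inr a : N ⋊[MonoidHom.id (MulAut N)] MulAut N) * SemidirectProduct.inl n *
      (SemidirectProduct.inr a)⁻¹ = SemidirectProduct.inl (a n) := by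
  rw [← map_inv]
  exact (SemidirectProduct.inl_aut a n).symm

theorem ng_card_comap_of_le {A B : Type*} [Group A] [Group B] (f : A →* B)
    (hf : Function.Injective f) (K : Subgroup B) (hK : K ≤ f.range) :
    Nat.card (K.comap f) = Nat.card K := by
  rw [← Subgroup.card_map_of_injective hf, Subgroup.map_comap_eq, inf_eq_right.mpr hK]

theorem ng_claimB {G : Type*} [Group G] [Finite G] (M : Subgroup G) [hMn : M.Normal]
    (hMc : ∀ a ∈ M, ∀ b ∈ M, a * b = b * a) (hM2 : ∀ a ∈ M, a * a = 1)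
    {p : ℕ} [Fact p.Prime] (hp5 : 5 ≤ p) (x : G) (hx3 : x ^ 3 ∈ Subgroup.centralizer (M : Set G))
    (hV : Nat.card ↥⁅M, Subgroup.zpowers x⁆ = 4) (R : Subgroup G) (hR : IsPGroup p R)
    (hxR : x ∈ Subgroup.normalizer (R : Set G)) :
    ∃ U : Subgroup G, ⁅M, Subgroup.zpowers x⁆ ≤ U ∧ U ≤ M ∧
      R ≤ Subgroup.normalizer (U : Set G) ∧ (Nat.card U = 4 ∨ Nat.card U = 8) := by
  classical
  obtain ⟨φ, hφ⟩ : ∃ φ : G →* MulAut M, ∀ (g : G) (m : M), ((φ g m : M) : G) = g * m * g⁻¹ :=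
    ⟨MulAut.conjNormal, fun g m => MulAut.conjNormal_apply g m⟩
  haveI : Finite (↥M ⋊[MonoidHom.id (MulAut ↥M)] MulAut ↥M) :=
    Finite.of_equiv _ SemidirectProduct.equivProd.symm
  obtain ⟨ι, hι⟩ : ∃ ι : ↥M →* ↥M ⋊[MonoidHom.id (MulAut ↥M)] MulAut ↥M,
    ι = SemidirectProduct.inl := ⟨_, rfl⟩
  obtain ⟨κ, hκ⟩ : ∃ κ : MulAut ↥M →* ↥M ⋊[MonoidHom.id (MulAut ↥M)] MulAut ↥M,
    κ = SemidirectProduct.inr := ⟨_, rfl⟩
  have hιinj : Function.Injective ι := by rw [hι]; exact SemidirectProduct.inl_injective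
  have hconj : ∀ (a : MulAut ↥M) (m : ↥M), κ a * ι m * (κ a)⁻¹ = ι (a m) := by
    intro a m
    rw [hι, hκ]
    exact ng_sd_conj a m
  have hκι : ∀ (a : MulAut ↥M), (∀ m : ↥M, κ a * ι m = ι m * κ a) → a = 1 := by
    intro a h
    apply MulEquiv.ext
    intro m
    have h1 := hconj a m
    rw [h m, mul_inv_cancel_right] at h1
    rw [MulAut.one_apply]
    exact (hιinj h1).symm
  obtain ⟨M', hM'⟩ : ∃ M' : Subgroup (↥M ⋊[MonoidHom.id (MulAut ↥M)] MulAut ↥M),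
    M' = ι.range := ⟨_, rfl⟩
  haveI hM'n : M'.Normal := by
    rw [hM', hι, SemidirectProduct.range_inl_eq_ker_rightHom]
    exact MonoidHom.normal_ker _
  have hM'c : ∀ a ∈ M', ∀ b ∈ M', a * b = b * a := by
    rw [hM']
    rintro _ ⟨m, rfl⟩ _ ⟨n, rfl⟩
    rw [← map_mul, ← map_mul]
    congr 1
    exact Subtype.ext (hMc m m.2 n n.2)
  have hM'2 : ∀ a ∈ M', a * a = 1 := by
    rw [hM']
    rintro _ ⟨m, rfl⟩
    rw [← map_mul]
    have h1 : m * m = 1 := Subtype.ext (hM2 m m.2)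
    rw [h1, map_one]
  obtain ⟨ψ, hψ⟩ : ∃ ψ : G →* ↥M ⋊[MonoidHom.id (MulAut ↥M)] MulAut ↥M,
    ∀ g, ψ g = κ (φ g) := ⟨κ.comp φ, fun g => rfl⟩
  have hψconj : ∀ (g : G) (m : ↥M), ψ g * ι m * (ψ g)⁻¹ = ι (φ g m) := fun g m => by
    rw [hψ]; exact hconj _ m
  have hx'3 : (ψ x) ^ 3 = 1 := by
    rw [← map_pow, hψ]
    have h1 : φ (x ^ 3) = 1 := by
      apply MulEquiv.ext
      intro m
      apply Subtype.ext
      rw [hφ, MulAut.one_apply]
      have h2 := Subgroup.mem_centralizer_iff.mp hx3 m m.2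
      rw [← h2]
      group
    rw [h1, map_one]
  have hA : ∀ W₀ : Subgroup ↥M, (∀ m : ↥M, φ x m * m⁻¹ ∈ W₀) →
      ⁅M, Subgroup.zpowers x⁆ ≤ W₀.map M.subtype := by
    intro W₀ h
    refine ng_comm_zpowers_le M _ (Subgroup.map_subtype_le W₀) x ?_
    intro m hm
    refine ⟨φ x ⟨m, hm⟩ * (⟨m, hm⟩ : ↥M)⁻¹, h ⟨m, hm⟩, ?_⟩
    simp [hφ]
  have hA' : ∀ W₀ : Subgroup ↥M, (∀ m : ↥M, φ x m * m⁻¹ ∈ W₀) →
      ⁅M', Subgroup.zpowers (ψ x)⁆ ≤ W₀.map ι := by
    intro W₀ h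
    refine ng_comm_zpowers_le M' _ ?_ (ψ x) ?_
    · rw [hM']
      rintro _ ⟨m, -, rfl⟩
      exact ⟨m, rfl⟩
    · rw [hM']
      rintro _ ⟨m, rfl⟩
      refine ⟨φ x m * m⁻¹, h m, ?_⟩
      rw [map_mul, map_inv, ← hψconj]
  have hB : ∀ m : ↥M, ((φ x m * m⁻¹ : ↥M) : G) ∈ ⁅M, Subgroup.zpowers x⁆ := by
    intro m
    have h1 := ng_comm_mem M x m.2
    simpa [hφ] using h1
  have hB' : ∀ m : ↥M, ι (φ x m * m⁻¹) ∈ ⁅M', Subgroup.zpowers (ψ x)⁆ := by
    intro m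
    have h1 := ng_comm_mem M' (ψ x) (m := ι m) (by rw [hM']; exact ⟨m, rfl⟩)
    rw [map_mul, map_inv, ← hψconj]
    exact h1
  obtain ⟨V', hV'def⟩ : ∃ V' : Subgroup (↥M ⋊[MonoidHom.id (MulAut ↥M)] MulAut ↥M),
    V' = ⁅M', Subgroup.zpowers (ψ x)⁆ := ⟨_, rfl⟩
  have hV'M' : V' ≤ M' := by rw [hV'def]; exact Subgroup.commutator_le_left M' _
  have h_i : V' ≤ ((⁅M, Subgroup.zpowers x⁆).comap M.subtype).map ι := by
    rw [hV'def]; exact hA' _ (fun m => hB m)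
  have h_ii : ⁅M, Subgroup.zpowers x⁆ ≤ (V'.comap ι).map M.subtype := by
    rw [hV'def]; exact hA _ (fun m => hB' m)
  have hV'card : Nat.card V' = 4 := by
    apply le_antisymm
    · calc Nat.card V' ≤ Nat.card (((⁅M, Subgroup.zpowers x⁆).comap M.subtype).map ι) :=
            Subgroup.card_le_of_le h_i
        _ = Nat.card ((⁅M, Subgroup.zpowers x⁆).comap M.subtype) :=
            Subgroup.card_map_of_injective hιinj
        _ = Nat.card ↥⁅M, Subgroup.zpowers x⁆ :=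
            ng_card_comap_of_le M.subtype M.subtype_injective _
              (by rw [Subgroup.range_subtype]; exact Subgroup.commutator_le_left M _)
        _ = 4 := hV
    · calc 4 = Nat.card ↥⁅M, Subgroup.zpowers x⁆ := hV.symm
        _ ≤ Nat.card ((V'.comap ι).map M.subtype) := Subgroup.card_le_of_le h_ii
        _ = Nat.card (V'.comap ι) := Subgroup.card_map_of_injective M.subtype_injective
        _ = Nat.card V' := ng_card_comap_of_le ι hιinj V' (by rw [← hM']; exact hV'M')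
  obtain ⟨R', hR'⟩ : ∃ R' : Subgroup (↥M ⋊[MonoidHom.id (MulAut ↥M)] MulAut ↥M),
    R' = R.map ψ := ⟨_, rfl⟩
  have hR'P : IsPGroup p R' := by rw [hR']; exact hR.map ψ
  have hx'R' : ψ x ∈ Subgroup.normalizer (R' : Set _) := by
    rw [hR']; exact Subgroup.le_normalizer_map ψ ⟨x, hxR, rfl⟩
  have hfaith : R' ⊓ Subgroup.centralizer (M' : Set _) = ⊥ := by
    rw [eq_bot_iff]
    rintro z ⟨hzR, hzC⟩
    rw [hR'] at hzR
    obtain ⟨g, hg, rfl⟩ := hzR
    rw [Subgroup.mem_bot, hψ]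
    have h1 : φ g = 1 := by
      apply hκι
      intro m
      have h2 := Subgroup.mem_centralizer_iff.mp hzC (ι m) (by rw [hM']; exact ⟨m, rfl⟩)
      rw [hψ] at h2
      exact h2.symm
    rw [h1, map_one]
  obtain ⟨U', hV'U', hU'M', hR'U', hU'card⟩ :=
    ng_faithful M' hM'c hM'2 hp5 (ψ x) hx'3 (by rw [← hV'def]; exact hV'card) R' hR'P hx'R' hfaith
  rw [← hV'def] at hV'U'
  refine ⟨(U'.comap ι).map M.subtype, ?_, Subgroup.map_subtype_le _, ?_, ?_⟩
  · exact h_ii.trans (Subgroup.map_mono (Subgroup.comap_mono hV'U'))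
  · have hconjU : ∀ g ∈ R, ∀ u ∈ (U'.comap ι).map M.subtype,
        g * u * g⁻¹ ∈ (U'.comap ι).map M.subtype := by
      rintro g hg _ ⟨m, hm, rfl⟩
      refine ⟨φ g m, ?_, hφ g m⟩
      show ι (φ g m) ∈ U'
      rw [← hψconj]
      exact conj_mem_of_mem_normalizer (hR'U' (by rw [hR']; exact ⟨g, hg, rfl⟩)) hm
    intro g hg
    apply mem_normalizer_of_conj_mem
    · exact hconjU g hg
    · intro u hu
      have h1 := hconjU g⁻¹ (R.inv_mem hg) u hu
      simpa using h1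
  · rw [Subgroup.card_map_of_injective M.subtype_injective,
      ng_card_comap_of_le ι hιinj U' (by rw [← hM']; exact hU'M')]
    exact hU'card

end Cfsg.Agent.Lib.Helper37
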