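import Mathlib
import Cfsg.Agent.S1450
import Cfsg.Agent.Lib.Helper1.HallLe
import Cfsg.Agent.Lib.Helper1.HallConj
import Cfsg.Agent.Lib.Helper48.Generation
import Cfsg.Agent.Lib.Helper54.NarrowChain
import Cfsg.Agent.Lib.Helper37.NG.NGC
import Cfsg.Agent.Lib.Helper37.NG.NGE

/-!
Case B of the lemma (no elementary abelian `3`-subgroup of order `27`) and the final assembly.
-/

namespace Cfsg.Agent.Lib.Helper37

open scoped commutatorElement Pointwise
open Cfsg.Agent.Lib.Helper31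

variable {G : Type*} [Group G]

/-- A `p`-group (`p ≥ 5`) normalizing a subgroup `U` of order `4` or `8` centralizes it, or
`p = 7` and there is no non-trivial fixed point. -/
theorem ng_fix_dich [Finite G] {p : ℕ} [Fact p.Prime] (hp5 : 5 ≤ p) (U : Subgroup G)
    (hU : Nat.card U = 4 ∨ Nat.card U = 8) (T : Subgroup G) (hT : IsPGroup p T)
    (hTU : T ≤ Subgroup.normalizer (U : Set G)) :
    U ≤ Subgroup.centralizer (T : Set G) ∨
      (p = 7 ∧ U ⊓ Subgroup.centralizer (T : Set G) = ⊥) := by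
  have hp : p.Prime := Fact.out
  have h1 := ng_card_modEq_fix T U hT hTU
  obtain ⟨F, hF⟩ : ∃ F : Subgroup G, F = U ⊓ Subgroup.centralizer (T : Set G) := ⟨_, rfl⟩
  rw [← hF] at h1 ⊢
  have hFU : F ≤ U := by rw [hF]; exact inf_le_left
  have hdvd : Nat.card F ∣ Nat.card U := Subgroup.card_dvd_of_le hFU
  have hle : Nat.card F ≤ Nat.card U := Subgroup.card_le_of_le hFU
  have hpos : 0 < Nat.card F := Nat.card_pos
  have h2 : p ∣ Nat.card U - Nat.card F := (Nat.modEq_iff_dvd' hle).mp h1.symm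
  have hfull : Nat.card F = Nat.card U → U ≤ Subgroup.centralizer (T : Set G) := by
    intro h
    have h3 : F = U := Subgroup.eq_of_le_of_card_ge hFU (by rw [h])
    rw [← h3, hF]; exact inf_le_right
  obtain ⟨f, hf⟩ : ∃ f : ℕ, f = Nat.card F := ⟨_, rfl⟩
  rw [← hf] at hdvd hle h2 hpos hfull
  rcases hU with hU | hU
  · left
    apply hfull
    rw [hU] at hdvd hle h2 ⊢
    interval_cases f
    · have := Nat.le_of_dvd (by norm_num) h2
      omega
    · have := Nat.le_of_dvd (by norm_num) h2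
      omega
    · omega
    · rfl
  · rw [hU] at hdvd hle h2 hfull
    have hcases : f = 8 ∨ (f = 1 ∧ p = 7) := by
      interval_cases f
      · right
        refine ⟨rfl, ?_⟩
        have h3 : p ≤ 7 := Nat.le_of_dvd (by norm_num) h2
        interval_cases p
        · omega
        · omega
        · rfl
      · exfalso
        have h3 : p ≤ 6 := Nat.le_of_dvd (by norm_num) h2
        interval_cases p
        · omega
        · exact absurd hp (by norm_num)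
      · omega
      · exfalso
        have := Nat.le_of_dvd (by norm_num) h2
        omega
      · omega
      · omega
      · omega
      · left; rfl
    rcases hcases with h | ⟨h, h7⟩
    · left; exact hfull h
    · right
      refine ⟨h7, Subgroup.card_eq_one.mp ?_⟩
      rw [← hf, h]

/-- A `p`-group (`p ≥ 5`) normalizing a subgroup `U` of order `4` or `8` has a subgroup of index
at most `p` centralizing `U`. -/
theorem ng_small_index [Finite G] {p : ℕ} [Fact p.Prime] (hp5 : 5 ≤ p) (U : Subgroup G)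
    (hU : Nat.card U = 4 ∨ Nat.card U = 8) (E : Subgroup G) (hE : IsPGroup p E)
    (hEU : E ≤ Subgroup.normalizer (U : Set G)) :
    Nat.card E ≤ p * Nat.card (E ⊓ Subgroup.centralizer (U : Set G) : Subgroup G) := by
  classical
  have hp : p.Prime := Fact.out
  rcases ng_fix_dich hp5 U hU E hE hEU with h | ⟨h7, hbot⟩
  · have h1 : E ⊓ Subgroup.centralizer (U : Set G) = E :=
      inf_eq_left.mpr (Subgroup.le_centralizer_iff.mp h)
    rw [h1]
    exact Nat.le_mul_of_pos_left _ hp.pos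
  · have hU1 : 1 < Nat.card U := by rcases hU with h | h <;> omega
    obtain ⟨u, huU, hu1⟩ : ∃ u ∈ U, u ≠ 1 := by
      by_contra hcon
      push Not at hcon
      have h1 : U = ⊥ := (Subgroup.eq_bot_iff_forall _).mpr hcon
      rw [h1, Subgroup.card_bot] at hU1
      omega
    obtain ⟨Eu, hEu⟩ : ∃ Eu : Subgroup G, Eu = E ⊓ Subgroup.centralizer ({u} : Set G) := ⟨_, rfl⟩
    have hEuE : Eu ≤ E := by rw [hEu]; exact inf_le_left
    have hEuC : Eu ≤ Subgroup.centralizer (U : Set G) := by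
      rcases ng_fix_dich hp5 U hU Eu (hE.to_le hEuE) (hEuE.trans hEU) with h | ⟨-, h⟩
      · exact Subgroup.le_centralizer_iff.mp h
      · exfalso
        have h1 : u ∈ U ⊓ Subgroup.centralizer (Eu : Set G) := by
          refine ⟨huU, Subgroup.mem_centralizer_iff.mpr (fun t ht => ?_)⟩
          rw [hEu] at ht
          exact Subgroup.mem_centralizer_singleton_iff.mp ht.2
        rw [h, Subgroup.mem_bot] at h1
        exact hu1 h1
    have hf : ∀ a ∈ E, (fun e : G => e * u * e⁻¹) a ∈ ((U : Set G) \ {1}) := by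
      intro a ha
      refine ⟨conj_mem_of_mem_normalizer (hEU ha) huU, ?_⟩
      rw [Set.mem_singleton_iff]
      intro h
      apply hu1
      have h' : a * u * a⁻¹ = 1 := h
      calc u = a⁻¹ * (a * u * a⁻¹) * a := by group
        _ = 1 := by rw [h']; group
    have hK : ∀ a₁ ∈ E, ∀ a₂ ∈ E, (fun e : G => e * u * e⁻¹) a₁ = (fun e : G => e * u * e⁻¹) a₂ →
        a₂⁻¹ * a₁ ∈ Eu := by
      intro a₁ ha₁ a₂ ha₂ h
      have h' : a₁ * u * a₁⁻¹ = a₂ * u * a₂⁻¹ := h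
      rw [hEu]
      refine ⟨E.mul_mem (E.inv_mem ha₂) ha₁, Subgroup.mem_centralizer_singleton_iff.mpr ?_⟩
      calc a₂⁻¹ * a₁ * u = a₂⁻¹ * (a₁ * u * a₁⁻¹) * a₁ := by group
        _ = a₂⁻¹ * (a₂ * u * a₂⁻¹) * a₁ := by rw [h']
        _ = u * (a₂⁻¹ * a₁) := by group
    have hcount := Cfsg.Agent.Lib.Helper54.card_le_mul_of_fiber E Eu ((U : Set G) \ {1})
      (fun e : G => e * u * e⁻¹) hf hK
    have hU' : (U : Set G).ncard = Nat.card U := (Nat.card_coe_set_eq (U : Set G)).symm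
    have hs : Nat.card ↥((U : Set G) \ {1}) ≤ 7 := by
      rw [Nat.card_coe_set_eq, Set.ncard_sdiff_singleton_of_mem (U.one_mem), hU']
      rcases hU with h | h <;> omega
    calc Nat.card E ≤ Nat.card Eu * Nat.card ↥((U : Set G) \ {1}) := hcount
      _ ≤ Nat.card (E ⊓ Subgroup.centralizer (U : Set G) : Subgroup G) * 7 :=
          Nat.mul_le_mul (Subgroup.card_le_of_le (le_inf hEuE hEuC)) hs
      _ = p * Nat.card (E ⊓ Subgroup.centralizer (U : Set G) : Subgroup G) := by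
          rw [h7, mul_comm]

theorem ng_conj_EA (E : Subgroup G) {p : ℕ} (hEc : ∀ a ∈ E, ∀ b ∈ E, a * b = b * a)
    (hEe : ∀ a ∈ E, a ^ p = 1) (g : G) :
    (∀ a ∈ E.map (MulAut.conj g).toMonoidHom, ∀ b ∈ E.map (MulAut.conj g).toMonoidHom,
        a * b = b * a) ∧
      (∀ a ∈ E.map (MulAut.conj g).toMonoidHom, a ^ p = 1) ∧
      Nat.card (E.map (MulAut.conj g).toMonoidHom) = Nat.card E := by
  refine ⟨?_, ?_, Subgroup.card_map_of_injective (MulAut.conj g).injective⟩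
  · rintro _ ⟨a, ha, rfl⟩ _ ⟨b, hb, rfl⟩
    show g * a * g⁻¹ * (g * b * g⁻¹) = g * b * g⁻¹ * (g * a * g⁻¹)
    have h := hEc a ha b hb
    calc g * a * g⁻¹ * (g * b * g⁻¹) = g * (a * b) * g⁻¹ := by group
      _ = g * (b * a) * g⁻¹ := by rw [h]
      _ = g * b * g⁻¹ * (g * a * g⁻¹) := by group
  · rintro _ ⟨a, ha, rfl⟩
    show (g * a * g⁻¹) ^ p = 1
    rw [conj_pow, hEe a ha]; group

/-- The core of Case B: the elementary abelian `p`-group lies in a `p`-group normalized by `x`. -/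
theorem ng_caseB_core [Finite G] (M : Subgroup G) [hMn : M.Normal]
    (hMc : ∀ a ∈ M, ∀ b ∈ M, a * b = b * a) (hM2 : ∀ a ∈ M, a * a = 1)
    (x : G) (hx3' : x ^ 3 ∈ Subgroup.centralizer (M : Set G))
    (hV : Nat.card ↥⁅M, Subgroup.zpowers x⁆ = 4) {p : ℕ} [Fact p.Prime] (hp5 : 5 ≤ p)
    (R : Subgroup G) (hR : IsPGroup p R) (hxR : x ∈ Subgroup.normalizer (R : Set G))
    (E : Subgroup G) (hER : E ≤ R) (hEc : ∀ a ∈ E, ∀ b ∈ E, a * b = b * a)
    (hEe : ∀ a ∈ E, a ^ p = 1) (hE3 : Nat.card E = p ^ 3) :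
    ∃ F : Subgroup G, Cfsg.IsElementaryAbelian p F ∧ Nat.card F = p ^ 3 ∧
      ¬ IsCyclic ↥(F ⊓ Subgroup.centralizer ((⁅M, Subgroup.zpowers x⁆ : Subgroup G) : Set G)) := by
  have hp : p.Prime := Fact.out
  obtain ⟨U, hVU, hUM, hRU, hUcard⟩ := ng_claimB M hMc hM2 hp5 x hx3' hV R hR hxR
  have h1 := ng_small_index hp5 U hUcard E (hR.to_le hER) (hER.trans hRU)
  refine ⟨E, ng_isEA hEc hEe, hE3, ?_⟩
  refine ng_not_cyclic hp
    (E ⊓ Subgroup.centralizer ((⁅M, Subgroup.zpowers x⁆ : Subgroup G) : Set G))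
    (fun a ha => hEe a ha.1) ?_
  have h2 : E ⊓ Subgroup.centralizer (U : Set G) ≤
      E ⊓ Subgroup.centralizer ((⁅M, Subgroup.zpowers x⁆ : Subgroup G) : Set G) :=
    inf_le_inf_left _ (Subgroup.centralizer_le (SetLike.coe_subset_coe.mpr hVU))
  have h3 := Subgroup.card_le_of_le h2
  rw [hE3] at h1
  have h4 : p ^ 2 ≤ Nat.card (E ⊓ Subgroup.centralizer (U : Set G) : Subgroup G) := by
    have h5 : p * p ^ 2 ≤ p * Nat.card (E ⊓ Subgroup.centralizer (U : Set G) : Subgroup G) := by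
      calc p * p ^ 2 = p ^ 3 := by ring
        _ ≤ _ := h1
    exact Nat.le_of_mul_le_mul_left h5 hp.pos
  exact h4.trans h3

/-- Case B: the `3`-rank is at most `2`. -/
theorem ng_caseB {S : Type*} [Group S] [Finite S] [Group.IsSolvable S] (M : Subgroup S)
    [hMn : M.Normal] (hMc : ∀ a ∈ M, ∀ b ∈ M, a * b = b * a) (hM2 : ∀ a ∈ M, a * a = 1)
    (x : S) (hx3 : IsPGroup 3 (Subgroup.zpowers x))
    (hx3' : x ^ 3 ∈ Subgroup.centralizer (M : Set S))
    (hV : Nat.card ↥⁅M, Subgroup.zpowers x⁆ = 4) {p : ℕ} [Fact p.Prime] (hp5 : 5 ≤ p)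
    (E : Subgroup S) (hEc : ∀ a ∈ E, ∀ b ∈ E, a * b = b * a) (hEe : ∀ a ∈ E, a ^ p = 1)
    (hE3 : Nat.card E = p ^ 3)
    (hno : ∀ A : Subgroup S, (∀ a ∈ A, ∀ b ∈ A, a * b = b * a) → (∀ a ∈ A, a ^ 3 = 1) →
      Nat.card A ≤ 9) :
    ∃ F : Subgroup S, Cfsg.IsElementaryAbelian p F ∧ Nat.card F = p ^ 3 ∧
      ¬ IsCyclic ↥(F ⊓ Subgroup.centralizer ((⁅M, Subgroup.zpowers x⁆ : Subgroup S) : Set S)) := by
  classical
  have hp : p.Prime := Fact.out
  haveI : Fact (Nat.Prime 3) := ⟨Nat.prime_three⟩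
  obtain ⟨k, m, hmodd, hkm⟩ := Nat.exists_eq_two_pow_mul_odd (n := Nat.card S) Nat.card_pos.ne'
  have hSm : Nat.card S = m * 2 ^ k := by rw [hkm, mul_comm]
  have hcop : m.Coprime (2 ^ k) := Nat.Coprime.pow_right k (Nat.coprime_two_right.mpr hmodd)
  have hQcop : (Nat.card (Subgroup.zpowers x)).Coprime (2 ^ k) := by
    obtain ⟨j, hj⟩ := IsPGroup.iff_card.mp hx3
    rw [hj]
    exact Nat.Coprime.pow j k (by norm_num)
  have hEcop : (Nat.card E).Coprime (2 ^ k) := by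
    rw [hE3]
    exact Nat.Coprime.pow 3 k ((Nat.coprime_primes hp Nat.prime_two).mpr (by omega))
  obtain ⟨H, hHcard, hQH⟩ :=
    Cfsg.Agent.Lib.Helper1.hall_le m (2 ^ k) hSm hcop (Subgroup.zpowers x) hQcop
  obtain ⟨H₂, hH₂card, hEH₂⟩ := Cfsg.Agent.Lib.Helper1.hall_le m (2 ^ k) hSm hcop E hEcop
  obtain ⟨g, hg⟩ := Cfsg.Agent.Lib.Helper1.hall_conj m (2 ^ k) hSm hcop H₂ H hH₂card hHcard
  obtain ⟨E₁, hE₁⟩ : ∃ E₁ : Subgroup S, E₁ = E.map (MulAut.conj g).toMonoidHom := ⟨_, rfl⟩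
  obtain ⟨hE₁c, hE₁e, hE₁card⟩ := ng_conj_EA E hEc hEe g
  rw [← hE₁] at hE₁c hE₁e hE₁card
  rw [hE3] at hE₁card
  have hE₁H : E₁ ≤ H := by
    rw [hE₁, ← hg]
    rintro _ ⟨a, ha, rfl⟩
    exact ⟨a, hEH₂ ha, rfl⟩
  have hxH : x ∈ H := hQH (Subgroup.mem_zpowers x)
  have hHodd : Odd (Nat.card H) := by rw [hHcard]; exact hmodd
  have hx1 : x ≠ 1 := by
    rintro rfl
    have h1 : ⁅M, Subgroup.zpowers (1 : S)⁆ = ⊥ := by
      rw [Subgroup.zpowers_one_eq_bot]; exact Subgroup.commutator_bot_right M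
    rw [h1, Subgroup.card_bot] at hV
    omega
  have h3H : 3 ∣ Nat.card H := by
    obtain ⟨j, hj⟩ := IsPGroup.iff_card.mp hx3
    have hj0 : j ≠ 0 := by
      rintro rfl
      rw [pow_zero] at hj
      exact hx1 (Subgroup.zpowers_eq_bot.mp (Subgroup.card_eq_one.mp hj))
    have h1 : 3 ∣ Nat.card (Subgroup.zpowers x) := by rw [hj]; exact dvd_pow_self 3 hj0
    exact h1.trans (Subgroup.card_dvd_of_le hQH)
  have hrank : Cfsg.PRankLE 3 2 ↥H := by
    intro A hAc hAe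
    have hc : ∀ a ∈ A.map H.subtype, ∀ b ∈ A.map H.subtype, a * b = b * a := by
      rintro _ ⟨a, ha, rfl⟩ _ ⟨b, hb, rfl⟩
      rw [← map_mul, ← map_mul]
      congr 1
      exact congrArg Subtype.val (hAc.is_comm.comm ⟨a, ha⟩ ⟨b, hb⟩)
    have he : ∀ a ∈ A.map H.subtype, a ^ 3 = 1 := by
      rintro _ ⟨a, ha, rfl⟩
      rw [← map_pow, hAe a ha, map_one]
    have h1 := hno _ hc he
    rw [Subgroup.card_map_of_injective H.subtype_injective] at h1
    calc Nat.card A ≤ 9 := h1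
      _ = 3 ^ 2 := by norm_num
  obtain ⟨P, N, hNn, hNP⟩ := (Cfsg.Agent.S1450.result hHodd 3 h3H hrank).2.1 (Or.inl rfl)
  haveI := hNn
  obtain ⟨K, hK⟩ : ∃ K : Subgroup S, K = N.map H.subtype := ⟨_, rfl⟩
  have hKcard : Nat.card K = Nat.card N := by
    rw [hK]; exact Subgroup.card_map_of_injective H.subtype_injective
  have hN3 : ¬ 3 ∣ Nat.card N := by
    intro h
    have h1 : 3 ∣ Nat.card (P : Subgroup ↥H) := P.dvd_card_of_dvd_card h3H
    have h2 := P.card_coprime_index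
    rw [hNP.index_eq_card] at h2
    exact Nat.Prime.not_coprime_iff_dvd.mpr ⟨3, Nat.prime_three, h1, h⟩ h2
  have hHK : H ≤ Subgroup.normalizer (K : Set S) := by
    have h1 := Subgroup.le_normalizer_map (H := N) H.subtype
    rw [Subgroup.normalizer_eq_top_iff.mpr hNn, ← MonoidHom.range_eq_map,
      Subgroup.range_subtype] at h1
    rw [hK]; exact h1
  have hQK : Subgroup.zpowers x ≤ Subgroup.normalizer (K : Set S) := hQH.trans hHK
  have hE₁K : E₁ ≤ K := by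
    intro e he
    have heH : e ∈ H := hE₁H he
    rw [hK]
    refine ⟨⟨e, heH⟩, ?_, rfl⟩
    have h1 : (⟨e, heH⟩ : ↥H) ^ p = 1 := Subtype.ext (by simpa using hE₁e e he)
    have h2 : orderOf (⟨e, heH⟩ : ↥H) ∣ p := orderOf_dvd_of_pow_eq_one h1
    have h3 : (N.index).Coprime (orderOf (⟨e, heH⟩ : ↥H)) := by
      have hidx : N.index = Nat.card (P : Subgroup ↥H) := hNP.symm.index_eq_card
      obtain ⟨a, ha⟩ := IsPGroup.iff_card.mp P.isPGroup'
      rw [hidx, ha]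
      refine Nat.Coprime.coprime_dvd_right h2 ?_
      exact Nat.Coprime.pow_left a ((Nat.coprime_primes Nat.prime_three hp).mpr (by omega))
    obtain ⟨n, hn⟩ := exists_pow_eq_self_of_coprime h3
    have h4 : ((⟨e, heH⟩ : ↥H) ^ N.index) ^ n ∈ N := N.pow_mem (N.pow_index_mem _) n
    rw [hn] at h4
    exact h4
  have hK3 : ¬ 3 ∣ Nat.card K := by rw [hKcard]; exact hN3
  obtain ⟨Q', hQ'⟩ :=
    Cfsg.Agent.Lib.Helper48.exists_invariant_sylow K (Subgroup.zpowers x) hx3 hK3 hQK p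
  obtain ⟨R, hR⟩ : ∃ R : Subgroup S, R = (Q' : Subgroup ↥K).map K.subtype := ⟨_, rfl⟩
  rw [← hR] at hQ'
  have hRP : IsPGroup p R := by rw [hR]; exact Q'.isPGroup'.map K.subtype
  have hxR : x ∈ Subgroup.normalizer (R : Set S) := hQ' (Subgroup.mem_zpowers x)
  have hE₁P : IsPGroup p E₁ := fun e => ⟨1, Subtype.ext (by simpa using hE₁e e e.2)⟩
  obtain ⟨P₁, hP₁⟩ := (hE₁P.comap_subtype (K := K)).exists_le_sylow
  obtain ⟨c, hc⟩ := MulAction.exists_smul_eq ↥K P₁ Q'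
  have hconj : ∀ a ∈ (P₁ : Subgroup ↥K), c * a * c⁻¹ ∈ (Q' : Subgroup ↥K) := by
    intro a ha
    rw [← hc]
    exact ⟨a, ha, rfl⟩
  obtain ⟨E₂, hE₂⟩ : ∃ E₂ : Subgroup S, E₂ = E₁.map (MulAut.conj (c : S)).toMonoidHom :=
    ⟨_, rfl⟩
  obtain ⟨hE₂c, hE₂e, hE₂card⟩ := ng_conj_EA E₁ hE₁c hE₁e (c : S)
  rw [← hE₂] at hE₂c hE₂e hE₂card
  rw [hE₁card] at hE₂card
  have hE₂R : E₂ ≤ R := by
    rw [hE₂, hR]
    rintro _ ⟨e, he, rfl⟩
    have heK : e ∈ K := hE₁K he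
    have h1 : (⟨e, heK⟩ : ↥K) ∈ (P₁ : Subgroup ↥K) :=
      hP₁ (show (⟨e, heK⟩ : ↥K) ∈ E₁.comap K.subtype from he)
    exact ⟨_, hconj _ h1, rfl⟩
  exact ng_caseB_core M hMc hM2 x hx3' hV hp5 R hRP hxR E₂ hE₂R hE₂c hE₂e hE₂card

/-- The lemma, for `Q = ⟨x⟩`. -/
theorem ng_main {S : Type*} [Group S] [Finite S] [Group.IsSolvable S] (M : Subgroup S)
    [hMn : M.Normal] (hMc : ∀ a ∈ M, ∀ b ∈ M, a * b = b * a) (hM2 : ∀ a ∈ M, a * a = 1)
    (x : S) (hx3 : IsPGroup 3 (Subgroup.zpowers x))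
    (hx3' : x ^ 3 ∈ Subgroup.centralizer (M : Set S))
    (hV : Nat.card ↥⁅M, Subgroup.zpowers x⁆ = 4) (p : ℕ) (hp : p.Prime) (hp2 : p ≠ 2)
    (E : Subgroup S) (hE : Cfsg.IsElementaryAbelian p E) (hE3 : Nat.card E = p ^ 3) :
    ∃ (r : ℕ) (F : Subgroup S), r.Prime ∧ r ≠ 2 ∧ Cfsg.IsElementaryAbelian r F ∧
      Nat.card F = r ^ 3 ∧
      ¬ IsCyclic ↥(F ⊓ Subgroup.centralizer ((⁅M, Subgroup.zpowers x⁆ : Subgroup S) : Set S)) := by
  classical
  haveI : Fact p.Prime := ⟨hp⟩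
  obtain ⟨hEc', hEe⟩ := hE
  have hEc : ∀ a ∈ E, ∀ b ∈ E, a * b = b * a := fun a ha b hb =>
    congrArg Subtype.val (hEc'.is_comm.comm ⟨a, ha⟩ ⟨b, hb⟩)
  by_cases h3 : ∃ A₃ : Subgroup S, (∀ a ∈ A₃, ∀ b ∈ A₃, a * b = b * a) ∧ (∀ a ∈ A₃, a ^ 3 = 1) ∧
      9 < Nat.card A₃
  · obtain ⟨A₃, hAc, hAe, hA⟩ := h3
    obtain ⟨F, hF1, hF2, hF3⟩ := ng_caseA M hMc hM2 x hx3 hV A₃ hAc hAe hA
    exact ⟨3, F, Nat.prime_three, by norm_num, hF1, hF2, hF3⟩
  · have hno : ∀ A : Subgroup S, (∀ a ∈ A, ∀ b ∈ A, a * b = b * a) → (∀ a ∈ A, a ^ 3 = 1) →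
        Nat.card A ≤ 9 := by
      intro A hAc hAe
      by_contra hcon
      push Not at hcon
      exact h3 ⟨A, hAc, hAe, hcon⟩
    have hp3 : p ≠ 3 := by
      rintro rfl
      have h1 := hno E hEc hEe
      rw [hE3] at h1
      norm_num at h1
    have hp5 : 5 ≤ p := by
      have h2 := hp.two_le
      by_contra hcon
      push Not at hcon
      have h4 : p = 4 := by omega
      rw [h4] at hp
      exact absurd hp (by norm_num)
    obtain ⟨F, hF1, hF2, hF3⟩ := ng_caseB M hMc hM2 x hx3 hx3' hV hp5 E hEc hEe hE3 hno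
    exact ⟨p, F, hp, hp2, hF1, hF2, hF3⟩

end Cfsg.Agent.Lib.Helper37
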